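import Cfsg.Agent.Lib.CosetEnum.Trans.Defs

/-!
# Rewriting sequences of transpositions
-/

set_option autoImplicit false

namespace Cfsg.Lib.CosetEnum

/-- The points of the letters of a word, in the order of the product. -/
def seqOf (pts : List Nat) (w : List Nat) : List Nat :=
  w.reverse.map fun g => pts.getD g 0

/-- One step: `(i, 0)` deletes an equal pair at `i`, `(i, j + 1)` moves the transposition at `i` to
the right, the word `j` leading from the first point to it. -/
noncomputable def stepSeq (Z : Tab) (k p₀ : Nat) (ws : List (List Nat)) (op : Nat × Nat)
    (q : List Nat) : Option (List Nat) :=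
  match q.drop op.1 with
  | a :: b :: t =>
    match op.2 with
    | 0 => cond (Nat.beq a b) (some (q.take op.1 ++ t)) none
    | j + 1 => cond (Nat.beq (twalk Z k (ws.getD j []) p₀) a)
        (force (twalk Z k (conjWord (ws.getD j [])) b) fun c => some (q.take op.1 ++ c :: a :: t))
        none
  | _ => none

/-- A program turns one sequence into another. -/
noncomputable def runSeq (Z : Tab) (k p₀ : Nat) (ws : List (List Nat)) :
    List (Nat × Nat) → List Nat → List Nat → Bool
  | [], q, r => beqW q r
  | op :: ops, q, r => match stepSeq Z k p₀ ws op q with
    | some q' => runSeq Z k p₀ ws ops q' r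
    | none => false

/-- Programs for words of even length. -/
noncomputable def evenProgsOK (Z : Tab) (k : Nat) (pts : List Nat) (ws : List (List Nat)) :
    List (List Nat) → List (List (Nat × Nat)) → Bool
  | [], [] => true
  | r :: rs, P :: Ps => Nat.beq (r.length % 2) 0 && (r.all fun g => Nat.blt g k) &&
      runSeq Z k (pts.getD 0 0) ws P (seqOf pts r) [] && evenProgsOK Z k pts ws rs Ps
  | _, _ => false

end Cfsg.Lib.CosetEnum
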