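import Cfsg.Agent.Lib.CosetEnum.Trans.Basic
import Cfsg.Agent.Lib.CosetEnum.Trans.DefsRewrite
import Cfsg.Agent.Lib.Schur.Basic
import Cfsg.Prelude.Def_KGroupFacts

/-!
# Lifts of transpositions to central extensions
-/

set_option autoImplicit false

open scoped commutatorElement

namespace Cfsg.Lib.CosetEnum

namespace TransTable

variable {G : Type*} [Group G] {n : ℕ} (A : TransTable G n)

/-- Lifts of the transpositions that are involutions and are permuted like them. -/
structure Lifts {Q : Type*} [Group Q] (π : Q →* G) where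
  /-- The lift of a point. -/
  Y : Fin n → Q
  proj : ∀ p, π (Y p) = A.delta p
  sq : ∀ p, Y p * Y p = 1
  conj : ∀ p q, Y p * Y q * Y p = Y (A.f (A.delta p) q)

variable {A} {Q : Type*} [Group Q] {π : Q →* G} (L : A.Lifts π)

/-- The lift of a number. -/
def Lifts.val (i : ℕ) : Q := if h : i < n then L.Y ⟨i, h⟩ else 1

/-- The product of the lifts of a sequence. -/
def Lifts.prodSeq (q : List ℕ) : Q := (q.map L.val).prod

theorem Lifts.step_prod (hk0 : 0 < A.k) {ws : List (List ℕ)}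
    (hws : ws.all (fun w => w.all fun g => Nat.blt g A.k) = true) {op : ℕ × ℕ} {q q' : List ℕ}
    (hq : ∀ i ∈ q, i < n) (h : stepSeq A.Z A.k (A.pts.getD 0 0) ws op q = some q') :
    L.prodSeq q' = L.prodSeq q ∧ ∀ i ∈ q', i < n := by
  unfold stepSeq at h
  split at h
  · next a b t hdrop =>
    have hsplit : q = q.take op.1 ++ a :: b :: t := by rw [← hdrop, List.take_append_drop]
    have hmem : ∀ i ∈ q.take op.1, i < n := fun i hi => hq i (List.mem_of_mem_take hi)
    have ha : a < n := hq a (by rw [hsplit]; simp)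
    have hb : b < n := hq b (by rw [hsplit]; simp)
    have ht : ∀ i ∈ t, i < n := fun i hi => hq i (by rw [hsplit]; simp [hi])
    have hval : L.prodSeq q = L.prodSeq (q.take op.1) * (L.val a * (L.val b * L.prodSeq t)) := by
      conv_lhs => rw [hsplit]
      simp only [Lifts.prodSeq, List.map_append, List.prod_append, List.map_cons, List.prod_cons]
    split at h
    · cases hab : Nat.beq a b
      · rw [hab] at h; simp at h
      · rw [hab, cond_true, Option.some_inj] at h
        subst h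
        have hab' : a = b := Nat.eq_of_beq_eq_true hab
        subst hab'
        refine ⟨?_, fun i hi => (List.mem_append.1 hi).elim (hmem i) (ht i)⟩
        rw [hval, ← mul_assoc (L.val a), Lifts.val, dif_pos ha, L.sq, one_mul]
        simp only [Lifts.prodSeq, List.map_append, List.prod_append]
    · next j _ =>
      cases hwalk : Nat.beq (twalk A.Z A.k (ws.getD j []) (A.pts.getD 0 0)) a
      · rw [hwalk] at h; simp at h
      · rw [hwalk, cond_true, force_eq, Option.some_inj] at h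
        subst h
        have hw : ∀ g ∈ ws.getD j [], g < A.k := by
          intro g hg
          by_cases hj : j < ws.length
          · rw [List.getD_eq_getElem _ _ hj] at hg
            simpa using List.all_eq_true.1 (List.all_eq_true.1 hws _ (List.getElem_mem hj)) g hg
          · rw [List.getD_eq_default _ _ (by omega)] at hg
            simp at hg
        set w := ws.getD j []
        have hcw := A.conjWord_lt hk0 hw
        have hc : twalk A.Z A.k (conjWord w) b < n := A.twalk_lt hcw hb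
        have hpt : (⟨a, ha⟩ : Fin n) = ⟨_, A.twalk_lt hw (A.pts_lt hk0)⟩ :=
          Fin.ext (Nat.eq_of_beq_eq_true hwalk).symm
        have hmove : A.f (A.delta ⟨a, ha⟩) ⟨b, hb⟩ = ⟨_, hc⟩ := by
          rw [hpt, A.delta_conjWord hk0 hw]
          exact Fin.ext (A.walk_apply hcw ⟨b, hb⟩)
        refine ⟨?_, fun i hi => ?_⟩
        · rw [hval]
          simp only [Lifts.prodSeq, List.map_append, List.prod_append, List.map_cons, List.prod_cons]
          rw [← mul_assoc (L.val a), ← mul_assoc (L.val (twalk A.Z A.k (conjWord w) b))]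
          congr 2
          rw [Lifts.val, Lifts.val, Lifts.val, dif_pos hc, dif_pos ha, dif_pos hb, ← hmove,
            ← L.conj, mul_assoc, L.sq, mul_one]
        · rcases List.mem_append.1 hi with hi | hi
          · exact hmem i hi
          · rcases List.mem_cons.1 hi with rfl | hi
            · exact hc
            · rcases List.mem_cons.1 hi with rfl | hi
              exacts [ha, ht i hi]
  · simp at h

theorem Lifts.run_prod (hk0 : 0 < A.k) {ws : List (List ℕ)}
    (hws : ws.all (fun w => w.all fun g => Nat.blt g A.k) = true) : ∀ {ops : List (ℕ × ℕ)}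
    {q r : List ℕ}, (∀ i ∈ q, i < n) → runSeq A.Z A.k (A.pts.getD 0 0) ws ops q r = true →
      L.prodSeq r = L.prodSeq q
  | [], q, r, _, h => by rw [beqW_eq h]
  | op :: ops, q, r, hq, h => by
    rw [runSeq] at h
    split at h
    · next q' hq' =>
      obtain ⟨he, hlt⟩ := L.step_prod hk0 hws hq hq'
      rw [Lifts.run_prod hk0 hws hlt h, he]
    · simp at h

theorem seqOf_lt {w : List ℕ} (hw : ∀ g ∈ w, g < A.k) : ∀ i ∈ seqOf A.pts w, i < n := by
  intro i hi
  obtain ⟨g, hg, rfl⟩ := List.mem_map.1 hi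
  exact A.pts_lt (hw g (List.mem_reverse.1 hg))

/-- The lifts of the generators. -/
def Lifts.y (g : ℕ) : Q := if g < A.k then L.val (A.pts.getD g 0) else 1

theorem Lifts.y_sq (g : ℕ) : L.y g * L.y g = 1 := by
  unfold Lifts.y Lifts.val
  split
  · split
    · exact L.sq _
    · exact one_mul 1
  · exact one_mul 1

theorem Lifts.proj_y {g : ℕ} (hg : g < A.k) : π (L.y g) = A.x g := by
  rw [Lifts.y, if_pos hg, Lifts.val, dif_pos (A.pts_lt hg), L.proj, A.delta_pts hg]

theorem Lifts.wordVal_y : ∀ {w : List ℕ}, (∀ g ∈ w, g < A.k) →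
    wordVal L.y w = L.prodSeq (seqOf A.pts w)
  | [], _ => rfl
  | g :: w, h => by
    have hg : g < A.k := h g (by simp)
    rw [wordVal, Lifts.wordVal_y fun a ha => h a (by simp [ha]),
      CosetEnum.gen, if_neg (Nat.ne_of_lt (lt_of_lt_of_le hg A.k_le)), Lifts.y, if_pos hg]
    simp [Lifts.prodSeq, seqOf]

theorem Lifts.proj_word : ∀ {w : List ℕ}, (∀ g ∈ w, g < A.k) →
    π (wordVal L.y w) = wordVal A.x w
  | [], _ => map_one π
  | g :: w, h => by
    have hg : g < A.k := h g (by simp)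
    rw [wordVal, wordVal, map_mul, Lifts.proj_word fun a ha => h a (by simp [ha]), CosetEnum.gen,
      CosetEnum.gen, if_neg (Nat.ne_of_lt (lt_of_lt_of_le hg A.k_le)),
      if_neg (Nat.ne_of_lt (lt_of_lt_of_le hg A.k_le)), L.proj_y hg]

theorem Lifts.evens (hk0 : 0 < A.k) {ws : List (List ℕ)}
    (hws : ws.all (fun w => w.all fun g => Nat.blt g A.k) = true) : ∀ {R : List (List ℕ)}
    {Ps : List (List (ℕ × ℕ))}, evenProgsOK A.Z A.k A.pts ws R Ps = true →
      ∀ r ∈ R, wordVal L.y r = 1 ∧ Even r.length ∧ ∀ g ∈ r, g < A.k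
  | [], _, _, r, hr => absurd hr (by simp)
  | r₀ :: R, [], h, r, hr => by simp [evenProgsOK] at h
  | r₀ :: R, P :: Ps, h, r, hr => by
    simp only [evenProgsOK, Bool.and_eq_true, List.all_eq_true, Nat.blt_eq, Nat.beq_eq,
      and_assoc] at h
    obtain ⟨h1, h2, h3, h4⟩ := h
    rcases List.mem_cons.1 hr with rfl | hr
    · refine ⟨?_, Nat.even_iff.2 h1, h2⟩
      rw [L.wordVal_y h2, ← L.run_prod hk0 hws (A.seqOf_lt h2) h3]
      rfl
    · exact Lifts.evens hk0 hws h4 r hr

theorem Lifts.prodSeq_append (a b : List ℕ) : L.prodSeq (a ++ b) = L.prodSeq a * L.prodSeq b := by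
  simp [Lifts.prodSeq]

/-- A central product that cubes to one and inverts itself is trivial. -/
theorem Lifts.eq_one_of_programs (hπ : π.ker ≤ Subgroup.center Q) (hk0 : 0 < A.k)
    {ws : List (List ℕ)} (hws : ws.all (fun w => w.all fun g => Nat.blt g A.k) = true)
    {r : List ℕ} (hr : ∀ g ∈ r, g < A.k) (hr1 : wordVal A.x r = 1)
    {m : List ℕ} {u : List ℕ} (hu : ∀ g ∈ u, g < A.k) {P₁ P₂ P₃ : List (ℕ × ℕ)}
    (h1 : runSeq A.Z A.k (A.pts.getD 0 0) ws P₁ (seqOf A.pts r) m = true)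
    (hm : m.all (fun i => Nat.blt i n) = true)
    (h2 : runSeq A.Z A.k (A.pts.getD 0 0) ws P₂
      (m ++ m.map (twalk A.Z A.k (conjWord u))) [] = true)
    (h3 : runSeq A.Z A.k (A.pts.getD 0 0) ws P₃
      (seqOf A.pts r ++ seqOf A.pts r ++ seqOf A.pts r) [] = true) :
    wordVal L.y r = 1 := by
  simp only [List.all_eq_true, Nat.blt_eq] at hm
  have hlt := A.seqOf_lt hr
  set F := wordVal L.y r
  have hF : F = L.prodSeq m := by rw [L.run_prod hk0 hws hlt h1]; exact L.wordVal_y hr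
  have hcent : F ∈ Subgroup.center Q := hπ (by rw [MonoidHom.mem_ker, L.proj_word hr, hr1])
  have hcube : F * F * F = 1 := by
    have h := L.run_prod hk0 hws (fun i hi => by
      simp only [List.mem_append, or_self] at hi
      exact hlt i hi) h3
    rw [L.prodSeq_append, L.prodSeq_append] at h
    rw [show F = L.prodSeq (seqOf A.pts r) from L.wordVal_y hr]
    exact h.symm
  have hcw := A.conjWord_lt hk0 hu
  set p : Fin n := ⟨_, A.twalk_lt hu (A.pts_lt hk0)⟩
  have hconj : ∀ q : List ℕ, (∀ i ∈ q, i < n) →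
      L.prodSeq (q.map (twalk A.Z A.k (conjWord u))) = L.Y p * L.prodSeq q * L.Y p := by
    intro q
    induction q with
    | nil => intro _; simp [Lifts.prodSeq, L.sq]
    | cons i q ih =>
      intro hq
      have hi : i < n := hq i (by simp)
      have hc := A.twalk_lt hcw hi
      have e : A.f (A.delta p) ⟨i, hi⟩ = ⟨_, hc⟩ := by
        rw [A.delta_conjWord hk0 hu]
        exact Fin.ext (A.walk_apply hcw ⟨i, hi⟩)
      have ih' := ih fun a ha => hq a (by simp [ha])
      simp only [Lifts.prodSeq, List.map_cons, List.prod_cons] at ih' ⊢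
      rw [ih', Lifts.val, Lifts.val, dif_pos hi, dif_pos hc, ← e, ← L.conj]
      calc L.Y p * L.Y ⟨i, hi⟩ * L.Y p * (L.Y p * (List.map L.val q).prod * L.Y p)
          = L.Y p * L.Y ⟨i, hi⟩ * (L.Y p * L.Y p) * (List.map L.val q).prod * L.Y p := by group
        _ = L.Y p * (L.Y ⟨i, hi⟩ * (List.map L.val q).prod) * L.Y p := by
          rw [L.sq]; group
  have hsq : F * F = 1 := by
    have h := L.run_prod hk0 hws (fun i hi => by
      rcases List.mem_append.1 hi with hi | hi
      · exact hm i hi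
      · obtain ⟨a, ha, rfl⟩ := List.mem_map.1 hi
        exact A.twalk_lt hcw (hm a ha)) h2
    rw [L.prodSeq_append, hconj m hm, ← hF, (Subgroup.mem_center_iff.1 hcent (L.Y p)), mul_assoc F (L.Y p),
      L.sq, mul_one] at h
    exact h.symm
  rw [hsq, one_mul] at hcube
  exact hcube

end TransTable

theorem wordVal_mul_central {M : Type*} [Group M] {c : M} (hc : c ∈ Subgroup.center M)
    (y : ℕ → M) : ∀ {w : List ℕ}, (∀ g ∈ w, g ≠ eps) →
      wordVal (fun g => c * y g) w = c ^ w.length * wordVal y w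
  | [], _ => by simp [wordVal]
  | g :: w, h => by
    have hg : g ≠ eps := h g (by simp)
    rw [wordVal, wordVal, wordVal_mul_central hc y fun a ha => h a (by simp [ha]), gen, gen,
      if_neg hg, if_neg hg, List.length_cons, pow_succ]
    have e := Subgroup.mem_center_iff.1 hc (wordVal y w)
    calc c ^ w.length * wordVal y w * (c * y g) = c ^ w.length * (wordVal y w * c) * y g := by group
      _ = c ^ w.length * c * (wordVal y w * y g) := by rw [e]; group

namespace TransTable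

variable {G : Type} [Group G] {n : ℕ} (A : TransTable G n)

/-- The lifts exist in a central extension enlarged by a square root of the square of one lift. -/
theorem exists_lifts {E : Type} [Group E] {σ : E →* G} (hσ : Function.Surjective σ)
    (hker : σ.ker ≤ Subgroup.center E) (hd2 : A.d * A.d = 1)
    (hperf : Subgroup.centralizer ({A.d} : Set G) ≤
      ⁅Subgroup.centralizer ({A.d} : Set G), Subgroup.centralizer ({A.d} : Set G)⁆) :
    ∃ (Q : Type) (_ : Group Q) (π : Q →* G) (ι : E →* Q), π.ker ≤ Subgroup.center Q ∧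
      Function.Injective ι ∧ π.comp ι = σ ∧ Nonempty (A.Lifts π) := by
  obtain ⟨x₀, hx₀⟩ := hσ A.d
  set C := Subgroup.centralizer ({A.d} : Set G)
  have hz : ∀ e, σ e = 1 → ∀ a : E, a * e = e * a := fun e he a =>
    Subgroup.mem_center_iff.1 (hker he) a
  -- everything over the centraliser commutes with the lift
  have hfix : ∀ a : E, σ a ∈ C → a * x₀ * a⁻¹ = x₀ := by
    have hK : ⁅C.comap σ, C.comap σ⁆ ≤ Subgroup.centralizer {x₀} := by
      rw [Subgroup.commutator_le]
      intro a ha b hb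
      rw [Subgroup.mem_centralizer_singleton_iff]
      have key : ∀ a : E, σ a ∈ C → ∃ ζ, σ ζ = 1 ∧ a * x₀ = ζ * (x₀ * a) := by
        intro a ha
        refine ⟨a * x₀ * (x₀ * a)⁻¹, ?_, by group⟩
        rw [map_mul, map_mul, map_inv, map_mul, hx₀, Subgroup.mem_centralizer_singleton_iff.1 ha,
          mul_inv_cancel]
      obtain ⟨ζ, hζ, ea⟩ := key a ha
      obtain ⟨η, hη, eb⟩ := key b hb
      have ea' : a⁻¹ * x₀ = ζ⁻¹ * (x₀ * a⁻¹) := by
        calc a⁻¹ * x₀ = a⁻¹ * ζ⁻¹ * (ζ * (x₀ * a)) * a⁻¹ := by group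
          _ = a⁻¹ * ζ⁻¹ * (a * x₀) * a⁻¹ := by rw [ea]
          _ = a⁻¹ * (ζ⁻¹ * a) * x₀ * a⁻¹ := by group
          _ = a⁻¹ * (a * ζ⁻¹) * x₀ * a⁻¹ := by rw [hz ζ⁻¹ (by rw [map_inv, hζ, inv_one]) a]
          _ = ζ⁻¹ * (x₀ * a⁻¹) := by group
      have eb' : b⁻¹ * x₀ = η⁻¹ * (x₀ * b⁻¹) := by
        calc b⁻¹ * x₀ = b⁻¹ * η⁻¹ * (η * (x₀ * b)) * b⁻¹ := by group
          _ = b⁻¹ * η⁻¹ * (b * x₀) * b⁻¹ := by rw [eb]
          _ = b⁻¹ * (η⁻¹ * b) * x₀ * b⁻¹ := by group
          _ = b⁻¹ * (b * η⁻¹) * x₀ * b⁻¹ := by rw [hz η⁻¹ (by rw [map_inv, hη, inv_one]) b]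
          _ = η⁻¹ * (x₀ * b⁻¹) := by group
      have cη : ∀ u : E, u * η⁻¹ = η⁻¹ * u := hz η⁻¹ (by rw [map_inv, hη, inv_one])
      have cζ : ∀ u : E, u * ζ⁻¹ = ζ⁻¹ * u := hz ζ⁻¹ (by rw [map_inv, hζ, inv_one])
      have cη' : ∀ u : E, u * η = η * u := hz η hη
      rw [commutatorElement_def]
      calc a * b * a⁻¹ * b⁻¹ * x₀ = a * b * a⁻¹ * (b⁻¹ * x₀) := by group
        _ = (a * b * a⁻¹) * η⁻¹ * (x₀ * b⁻¹) := by rw [eb']; group
        _ = η⁻¹ * (a * b * (a⁻¹ * x₀) * b⁻¹) := by rw [cη]; group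
        _ = η⁻¹ * (a * b * ζ⁻¹ * (x₀ * a⁻¹ * b⁻¹)) := by rw [ea']; group
        _ = η⁻¹ * (ζ⁻¹ * (a * (b * x₀) * a⁻¹ * b⁻¹)) := by rw [cζ]; group
        _ = η⁻¹ * (ζ⁻¹ * (a * η * (x₀ * b * a⁻¹ * b⁻¹))) := by rw [eb]; group
        _ = η⁻¹ * (ζ⁻¹ * (η * ((a * x₀) * b * a⁻¹ * b⁻¹))) := by rw [cη']; group
        _ = η⁻¹ * (ζ⁻¹ * η * ζ) * (x₀ * (a * b * a⁻¹ * b⁻¹)) := by rw [ea]; group
        _ = x₀ * (a * b * a⁻¹ * b⁻¹) := by rw [cη' ζ⁻¹]; group
    intro a ha
    have h1 : σ a ∈ (⁅C.comap σ, C.comap σ⁆).map σ := by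
      rw [Subgroup.map_commutator, Subgroup.map_comap_eq_self_of_surjective hσ]
      exact hperf ha
    obtain ⟨c, hc, hca⟩ := h1
    have hcx : c * x₀ = x₀ * c := Subgroup.mem_centralizer_singleton_iff.1 (hK hc)
    have hzc := hz (c⁻¹ * a) (by rw [map_mul, map_inv, hca, inv_mul_cancel]) x₀
    rw [mul_inv_eq_iff_eq_mul]
    calc a * x₀ = c * ((c⁻¹ * a) * x₀) := by group
      _ = c * (x₀ * (c⁻¹ * a)) := by rw [hzc]
      _ = x₀ * c * (c⁻¹ * a) := by rw [← mul_assoc, hcx]
      _ = x₀ * a := by group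
  choose m hm using fun p : Fin n => hσ (A.mover p)
  let X : Fin n → E := fun p => m p * x₀ * (m p)⁻¹
  have hX : ∀ a : E, X (A.f (σ a) A.p₀) = a * x₀ * a⁻¹ := by
    intro a
    set p := A.f (σ a) A.p₀
    have hc : σ ((m p)⁻¹ * a) ∈ C := by
      rw [Subgroup.mem_centralizer_singleton_iff, ← A.stab, map_mul, map_inv, hm, map_mul,
        Equiv.Perm.mul_apply, map_inv, Equiv.Perm.inv_def, Equiv.symm_apply_eq, A.mover_spec]
    have := hfix _ hc
    calc m p * x₀ * (m p)⁻¹ = m p * ((m p)⁻¹ * a * x₀ * ((m p)⁻¹ * a)⁻¹) * (m p)⁻¹ := by rw [this]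
      _ = a * x₀ * a⁻¹ := by group
  have hXσ : ∀ p, σ (X p) = A.delta p := fun p => by
    simp only [X, map_mul, map_inv, hm, hx₀]; rfl
  have hXconj : ∀ (a : E) (p : Fin n), a * X p * a⁻¹ = X (A.f (σ a) p) := by
    intro a p
    have := hX (a * m p)
    rw [map_mul, map_mul, Equiv.Perm.mul_apply, hm, A.mover_spec] at this
    rw [this]
    simp only [X]
    group
  set z := x₀ * x₀
  have hzker : σ z = 1 := by rw [map_mul, hx₀, hd2]
  have hXsq : ∀ p, X p * X p = z := by
    intro p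
    calc X p * X p = m p * z * (m p)⁻¹ := by simp only [X, z]; group
      _ = z := by rw [hz z hzker, mul_inv_cancel_right]
  let w : E × Multiplicative ℤ := (z, Multiplicative.ofAdd (-2))
  have hwc : w ∈ Subgroup.center (E × Multiplicative ℤ) := by
    rw [Subgroup.mem_center_iff]
    exact fun u => Prod.ext (hz z hzker u.1) (mul_comm _ _)
  let N := Subgroup.zpowers w
  have hNc : N ≤ Subgroup.center (E × Multiplicative ℤ) := by rwa [Subgroup.zpowers_le]
  have : N.Normal := ⟨fun u hu v => by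
    rw [Subgroup.mem_center_iff.1 (hNc hu) v, mul_inv_cancel_right]; exact hu⟩
  let π : (E × Multiplicative ℤ) ⧸ N →* G := QuotientGroup.lift N (σ.comp (MonoidHom.fst _ _))
    (by rw [Subgroup.zpowers_le]; exact hzker)
  let mk' := QuotientGroup.mk' N
  let ι : E →* (E × Multiplicative ℤ) ⧸ N := mk'.comp (MonoidHom.inl _ _)
  refine ⟨_, inferInstance, π, ι, ?_, ?_, ?_, ⟨⟨fun p => mk' (X p, Multiplicative.ofAdd (-1)),
    fun p => ?_, fun p => ?_, fun p q => ?_⟩⟩⟩
  · intro u hu
    obtain ⟨⟨e, c⟩, rfl⟩ := QuotientGroup.mk'_surjective N u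
    rw [Subgroup.mem_center_iff]
    intro v
    obtain ⟨v, rfl⟩ := QuotientGroup.mk'_surjective N v
    rw [← map_mul, ← map_mul]
    exact congrArg mk' (Prod.ext (hz e hu v.1) (mul_comm _ _))
  · refine (injective_iff_map_eq_one ι).2 fun e he => ?_
    obtain ⟨j, hj⟩ := Subgroup.mem_zpowers_iff.1 ((QuotientGroup.eq_one_iff _).1 he)
    have h2 := congrArg (fun u : E × Multiplicative ℤ => Multiplicative.toAdd u.2) hj
    simp only [w, Prod.pow_snd, toAdd_zpow, toAdd_ofAdd, MonoidHom.inl_apply, toAdd_one,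
      smul_eq_mul, mul_eq_zero] at h2
    have h1 := congrArg Prod.fst hj
    simp only [w, Prod.pow_fst, MonoidHom.inl_apply] at h1
    rw [← h1, show j = 0 by omega, zpow_zero]
  · ext e; rfl
  · exact hXσ p
  · rw [← map_mul]
    refine (QuotientGroup.eq_one_iff _).2 ?_
    have : (X p, Multiplicative.ofAdd (-1 : ℤ)) * (X p, Multiplicative.ofAdd (-1 : ℤ)) = w :=
      Prod.ext (hXsq p) rfl
    rw [this]
    exact Subgroup.mem_zpowers w
  · rw [← map_mul, ← map_mul]
    refine QuotientGroup.eq.2 ?_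
    rw [← hXσ p, ← hXconj]
    have hX2 : X p = z * (X p)⁻¹ := eq_mul_inv_of_mul_eq (hXsq p)
    have : ((X p, Multiplicative.ofAdd (-1 : ℤ)) * (X q, Multiplicative.ofAdd (-1 : ℤ)) *
        (X p, Multiplicative.ofAdd (-1 : ℤ)))⁻¹ *
        (X p * X q * (X p)⁻¹, Multiplicative.ofAdd (-1 : ℤ)) = w⁻¹ := by
      refine Prod.ext ?_ rfl
      show (X p * X q * X p)⁻¹ * (X p * X q * (X p)⁻¹) = z⁻¹
      nth_rewrite 2 [hX2]
      group
      rw [← hXsq p]
      group
    rw [this]
    exact inv_mem (Subgroup.mem_zpowers w)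

/-- A central extension with kernel in the derived subgroup is trivial, given the programs. -/
theorem stem_trivial {E : Type} [Group E] {σ : E →* G} (hσ : IsStemExtension σ)
    (hd2 : A.d * A.d = 1)
    (hperf : Subgroup.centralizer ({A.d} : Set G) ≤
      ⁅Subgroup.centralizer ({A.d} : Set G), Subgroup.centralizer ({A.d} : Set G)⁆)
    {R : List (List ℕ)} {r₂ : List ℕ}
    (hpres : ∀ (M : Type) [Group M] (y : ℕ → M), (∀ g, y g * y g = 1) →
      (∀ r ∈ R ++ [r₂], wordVal y r = 1) → ∃ s : G →* M, ∀ g < A.k, s (A.x g) = y g)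
    (hr₂ : ∀ g ∈ r₂, g < A.k) (hr₂1 : wordVal A.x r₂ = 1) (hodd : Odd r₂.length)
    (hR : ∀ (Q : Type) [Group Q] (π : Q →* G) (L : A.Lifts π), π.ker ≤ Subgroup.center Q →
      (∀ r ∈ R, wordVal L.y r = 1 ∧ Even r.length ∧ ∀ g ∈ r, g < A.k) ∧
        wordVal L.y r₂ * wordVal L.y r₂ = 1) :
    σ.ker = ⊥ := by
  obtain ⟨hsurj, hker, hcomm⟩ := hσ
  obtain ⟨Q, _, π, ι, hπ, hι, hcomp, ⟨L⟩⟩ := A.exists_lifts hsurj hker hd2 hperf
  obtain ⟨hev, hsq⟩ := hR Q π L hπ
  set F := wordVal L.y r₂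
  have hF : F ∈ Subgroup.center Q := hπ (by rw [MonoidHom.mem_ker, L.proj_word hr₂, hr₂1])
  have hne : ∀ {r : List ℕ}, (∀ g ∈ r, g < A.k) → ∀ g ∈ r, g ≠ eps := fun h g hg =>
    Nat.ne_of_lt (lt_of_lt_of_le (h g hg) A.k_le)
  obtain ⟨s, hs⟩ := hpres Q (fun g => F * L.y g) (fun g => by
    calc F * L.y g * (F * L.y g) = F * (L.y g * F) * L.y g := by group
      _ = F * F * (L.y g * L.y g) := by rw [Subgroup.mem_center_iff.1 hF]; group
      _ = 1 := by rw [hsq, L.y_sq, one_mul]) (by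
    intro r hr
    rw [List.mem_append, List.mem_singleton] at hr
    rcases hr with hr | rfl
    · obtain ⟨h1, ⟨c, hc⟩, h3⟩ := hev r hr
      rw [wordVal_mul_central hF _ (hne h3), h1, hc, mul_one, ← two_mul, pow_mul, pow_two, hsq,
        one_pow]
    · obtain ⟨c, hc⟩ := hodd
      rw [wordVal_mul_central hF _ (hne hr₂), hc, pow_succ, pow_mul, pow_two, hsq, one_pow,
        one_mul]
      exact hsq)
  have hπs : π.comp s = MonoidHom.id G := by
    refine MonoidHom.eq_of_eqOn_dense A.gen ?_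
    rintro _ ⟨g, hg, rfl⟩
    show π (s (A.x g)) = A.x g
    rw [hs g hg, map_mul, L.proj_y hg]
    show π F * A.x g = A.x g
    rw [L.proj_word hr₂, hr₂1, one_mul]
  have hcs : commutator Q ≤ s.range := by
    rw [commutator_def, Subgroup.commutator_le]
    intro a _ b _
    refine ⟨⁅π a, π b⁆, ?_⟩
    rw [map_commutatorElement]
    have hdec : ∀ q : Q, ∀ u : Q, u * (q⁻¹ * s (π q)) = q⁻¹ * s (π q) * u := by
      intro q u
      refine Subgroup.mem_center_iff.1 (hπ ?_) u
      rw [MonoidHom.mem_ker, map_mul, map_inv,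
        show π (s (π q)) = π q from DFunLike.congr_fun hπs (π q), inv_mul_cancel]
    generalize hu : a⁻¹ * s (π a) = u
    generalize hv : b⁻¹ * s (π b) = v
    have ea : s (π a) = a * u := by rw [← hu]; group
    have eb : s (π b) = b * v := by rw [← hv]; group
    have cu := fun t => hu ▸ hdec a t
    have cv := fun t => hv ▸ hdec b t
    rw [ea, eb, commutatorElement_def, commutatorElement_def, mul_inv_rev, mul_inv_rev]
    calc a * u * (b * v) * (u⁻¹ * a⁻¹) * (v⁻¹ * b⁻¹)
        = a * (u * (b * v)) * u⁻¹ * a⁻¹ * v⁻¹ * b⁻¹ := by group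
      _ = a * b * (v * a⁻¹) * v⁻¹ * b⁻¹ := by rw [← cu]; group
      _ = a * b * a⁻¹ * b⁻¹ := by rw [← cv]; group
  rw [eq_bot_iff]
  intro e he
  have h1 : ι e ∈ commutator Q := by
    have : (commutator E).map ι ≤ commutator Q := by
      rw [commutator_def, Subgroup.map_commutator, commutator_def]
      exact Subgroup.commutator_mono le_top le_top
    exact this ⟨e, hcomm he, rfl⟩
  obtain ⟨a, ha⟩ := hcs h1
  have h2 : a = 1 := by
    have := congrArg π ha
    rw [show π (s a) = a from DFunLike.congr_fun hπs a,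
      show π (ι e) = σ e from DFunLike.congr_fun hcomp e, MonoidHom.mem_ker.1 he] at this
    exact this
  rw [Subgroup.mem_bot]
  refine hι ?_
  rw [← ha, h2, map_one, map_one]

end TransTable

end Cfsg.Lib.CosetEnum
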