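import Cfsg.Agent.Lib.CosetEnum.Trans.Defs

/-!
# Checks on squares in a two-group of a coset table
-/

set_option autoImplicit false

namespace Cfsg.Lib.CosetEnum

/-- The conditions on the image of a point under an element centralising the values of some words. -/
noncomputable def pointConds (Z : Tab) (k : Nat) (tws : List (List Nat)) (p : Nat) :
    List (List Nat × Bool) :=
  tws.map fun w => (w, Nat.beq (twalk Z k w p) p)

/-- Commuting involutions that normalise a set of points. -/
noncomputable def normOK (Z : Tab) (k n : Nat) (us : List (List Nat)) (fps : List Nat) : Bool :=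
  us.all fun u => (u.all fun g => Nat.blt g k) && (fps.all fun p => elemN fps (twalk Z k u p)) &&
    us.all fun v => scanOK Z k [] (fun i => Nat.beq (twalk Z k (u ++ u) i) i &&
      Nat.beq (twalk Z k (u ++ v) i) (twalk Z k (v ++ u) i)) n 0

/-- An involution and two transpositions of the frame that it swaps. -/
structure SwapPair where
  /-- The involution. -/
  u : Nat
  /-- The first transposition. -/
  i : Nat
  /-- Its image. -/
  j : Nat

/-- The listed pairs are swapped. -/
noncomputable def swapsOK (Z : Tab) (k : Nat) (us : List (List Nat)) (fps : List Nat)
    (pairs : List SwapPair) : Bool :=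
  pairs.all fun e => Nat.blt e.u us.length && Nat.blt e.i fps.length && Nat.blt e.j fps.length &&
    Nat.beq (twalk Z k (us.getD e.u []) (fps.getD e.i 0)) (fps.getD e.j 0)

/-- The word of the product of a pair. -/
def swapWord (tws : List (List Nat)) (e : SwapPair) : List Nat :=
  tws.getD e.i [] ++ tws.getD e.j []

/-- Words of products of pairs. -/
def squareWords (tws : List (List Nat)) (pairs : List SwapPair) (prods : List (List Nat)) :
    List (List Nat) :=
  prods.map fun s => s.flatMap fun l => swapWord tws (pairs.getD l ⟨0, 0, 0⟩)

/-- A map of the points given by a table, with the words of the images of the generators. -/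
noncomputable def twistOK (Z Pi : Tab) (k n : Nat) (sub : List (List Nat)) : Bool :=
  (sub.all fun u => u.all fun g => Nat.blt g k) &&
    scanOK Z k [] (fun i => force (Pi.getP i) fun j => Nat.blt j n && Nat.beq (Pi.getP j) i &&
      (List.range k).all fun g => Nat.beq (Pi.getP (img Z k g i)) (twalk Z k (sub.getD g []) j)) n 0

/-- The number of fixed points below a bound. -/
noncomputable def fixCount (Pi : Tab) : Nat → Nat
  | 0 => 0
  | m + 1 => cond (Nat.beq (Pi.getP m) m) 1 0 + fixCount Pi m

end Cfsg.Lib.CosetEnum
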