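import Cfsg.Agent.Lib.CosetEnum.Trans.Class
import Cfsg.Agent.Lib.CosetEnum.Trans.DefsTwo

/-!
# Recognising a class of transpositions by squares in a two-group
-/

set_option autoImplicit false

namespace Cfsg.Lib.CosetEnum

namespace TransTable

variable {G : Type*} [Group G] {n : ℕ} (A : TransTable G n)

theorem frame_word {fg : List ℕ} {aux : List (List ℕ)}
    (hframe : frameOK A.Z A.k A.pts fg aux = true) {w : List ℕ} (hwm : w ∈ frameWords fg aux) :
    (∀ g ∈ w, g < A.k) ∧ ∃ q : Fin n, A.delta q = wordVal A.x w ∧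
      q.1 ∈ framePts A.Z A.k A.pts fg aux := by
  simp only [frameOK, Bool.and_eq_true, List.all_eq_true, Nat.blt_eq, Nat.beq_eq, and_assoc] at hframe
  obtain ⟨hfg, haux, hk0, -⟩ := hframe
  rcases List.mem_append.1 hwm with h | h
  · obtain ⟨g, hg, rfl⟩ := List.mem_map.1 h
    exact ⟨by simpa using hfg g hg, ⟨_, A.pts_lt (hfg g hg)⟩,
      by rw [A.delta_pts (hfg g hg), A.wordVal_singleton (hfg g hg)],
      List.mem_append_left _ (List.mem_map.2 ⟨g, hg, rfl⟩)⟩
  · obtain ⟨u, hu, rfl⟩ := List.mem_map.1 h
    exact ⟨A.conjWord_lt hk0 (haux u hu), ⟨_, A.twalk_lt (haux u hu) (A.pts_lt hk0)⟩,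
      A.delta_conjWord hk0 (haux u hu), List.mem_append_right _ (List.mem_map.2 ⟨u, hu, rfl⟩)⟩

theorem frame_commute {fg : List ℕ} {aux : List (List ℕ)}
    (hframe : frameOK A.Z A.k A.pts fg aux = true) {v w : List ℕ} (hv : v ∈ frameWords fg aux)
    (hw : w ∈ frameWords fg aux) : Commute (wordVal A.x v) (wordVal A.x w) := by
  obtain ⟨hlt, -⟩ := A.frame_word hframe hv
  obtain ⟨-, q, hqd, hq⟩ := A.frame_word hframe hw
  simp only [frameOK, Bool.and_eq_true, List.all_eq_true, Nat.blt_eq, Nat.beq_eq, and_assoc] at hframe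
  show wordVal A.x v * wordVal A.x w = wordVal A.x w * wordVal A.x v
  rw [← hqd, A.commute_delta_iff, Fin.ext_iff, A.walk_apply hlt]
  exact hframe.2.2.2 v hv q.1 hq

/-- The transposition of the point with a given place in the frame. -/
theorem frame_getD {fg : List ℕ} {aux : List (List ℕ)}
    (hframe : frameOK A.Z A.k A.pts fg aux = true) {i : ℕ}
    (hi : i < (frameWords fg aux).length) :
    ∃ h : (framePts A.Z A.k A.pts fg aux).getD i 0 < n,
      A.delta ⟨_, h⟩ = wordVal A.x ((frameWords fg aux).getD i []) := by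
  simp only [frameOK, Bool.and_eq_true, List.all_eq_true, Nat.blt_eq, Nat.beq_eq, and_assoc] at hframe
  obtain ⟨hfg, haux, hk0, -⟩ := hframe
  simp only [frameWords, framePts, List.length_append, List.length_map] at hi ⊢
  by_cases h : i < fg.length
  · have hg := hfg _ (List.getElem_mem h)
    have e₁ : (fg.map (fun g => A.pts.getD g 0) ++
        aux.map fun w => twalk A.Z A.k w (A.pts.getD 0 0)).getD i 0 = A.pts.getD fg[i] 0 := by
      rw [List.getD_append _ _ _ _ (by simpa using h), List.getD_eq_getElem _ _ (by simpa using h),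
        List.getElem_map]
    have e₂ : (fg.map (fun g => [g]) ++ aux.map conjWord).getD i [] = [fg[i]] := by
      rw [List.getD_append _ _ _ _ (by simpa using h), List.getD_eq_getElem _ _ (by simpa using h),
        List.getElem_map]
    refine ⟨e₁ ▸ A.pts_lt hg, ?_⟩
    rw [e₂, A.wordVal_singleton hg, ← A.delta_pts hg]
    exact congrArg A.delta (Fin.ext e₁)
  · have h' : i - fg.length < aux.length := by omega
    have hu := haux _ (List.getElem_mem h')
    have e₁ : (fg.map (fun g => A.pts.getD g 0) ++
        aux.map fun w => twalk A.Z A.k w (A.pts.getD 0 0)).getD i 0 =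
        twalk A.Z A.k aux[i - fg.length] (A.pts.getD 0 0) := by
      rw [List.getD_append_right _ _ _ _ (by simpa using Nat.le_of_not_lt h),
        List.getD_eq_getElem _ _ (by simpa using h'), List.getElem_map]
      simp
    have e₂ : (fg.map (fun g => [g]) ++ aux.map conjWord).getD i [] =
        conjWord aux[i - fg.length] := by
      rw [List.getD_append_right _ _ _ _ (by simpa using Nat.le_of_not_lt h),
        List.getD_eq_getElem _ _ (by simpa using h'), List.getElem_map]
      simp
    refine ⟨e₁ ▸ A.twalk_lt hu (A.pts_lt hk0), ?_⟩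
    rw [e₂, ← A.delta_conjWord hk0 hu]
    exact congrArg A.delta (Fin.ext e₁)

variable [Finite G]

/-- Candidates for the image of one point bound the centraliser. -/
theorem card_cent_point (hk0 : 0 < A.k) {tws : List (List ℕ)}
    (hw : tws.all (fun w => w.all fun g => Nat.blt g A.k) = true) {w₀ : List ℕ}
    (hw₀ : w₀.all (fun g => Nat.blt g A.k) = true) {cand : List ℕ}
    (hscan : scanOK A.Z A.k (pointConds A.Z A.k tws (twalk A.Z A.k w₀ (A.pts.getD 0 0)))
      (elemN cand) n 0 = true) :
    Nat.card (A.cent tws) ≤ cand.length * Nat.card (A.cent (conjWord w₀ :: tws)) := by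
  simp only [List.all_eq_true, Nat.blt_eq] at hw hw₀
  set C := A.cent tws
  set p : Fin n := ⟨_, A.twalk_lt hw₀ (A.pts_lt hk0)⟩
  have hmem : ∀ c : C, (A.f (c : G) p).1 ∈ cand := by
    intro c
    refine elemN_iff.1 (scanOK_get hscan _ (Nat.zero_le _) (by omega) ?_)
    rw [condsB_iff]
    intro e he
    obtain ⟨w, hwm, rfl⟩ := List.mem_map.1 he
    have hcw := A.mem_cent.1 c.2 w hwm
    have h1 : ∀ q : Fin n, wordVal A.x w * A.delta q = A.delta q * wordVal A.x w ↔
        twalk A.Z A.k w q.1 = q.1 := fun q => by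
      rw [A.commute_delta_iff, Fin.ext_iff, A.walk_apply (hw w hwm)]
    rw [Nat.beq_eq, ← h1, ← h1 p, A.delta_apply]
    have e1 : MulAut.conj (c : G) (wordVal A.x w) = wordVal A.x w := by
      rw [MulAut.conj_apply, ← hcw, mul_inv_cancel_right]
    constructor
    · intro h
      apply (MulAut.conj (c : G)).injective
      rw [map_mul, map_mul, e1]
      exact h
    · intro h
      have h2 := congrArg (MulAut.conj (c : G)) h
      rw [map_mul, map_mul, e1] at h2
      exact h2
  let orb : C → {i // i ∈ cand} := fun c => ⟨_, hmem c⟩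
  have hfib : ∀ a b : C, orb a = orb b → (a : G)⁻¹ * b ∈ A.cent (conjWord w₀ :: tws) := by
    intro a b hab
    refine A.mem_cent.2 fun w hwm => ?_
    rcases List.mem_cons.1 hwm with rfl | hwm
    · have h1 : A.f ((a : G)⁻¹ * b) p = p := by
        rw [map_mul, Equiv.Perm.mul_apply, map_inv, Equiv.Perm.inv_def, Equiv.symm_apply_eq]
        exact Fin.ext (congrArg Subtype.val hab).symm
      have h2 := (A.commute_delta_iff _ p).2 h1
      rw [← A.delta_conjWord hk0 hw₀]
      exact h2.symm
    · exact (A.mem_cent.1 (mul_mem (inv_mem a.2) b.2) w hwm)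
  classical
  have : Finite {i // i ∈ cand} := Finite.of_equiv _
    (Equiv.subtypeEquivRight fun i => List.mem_toFinset (a := i) (l := cand))
  let ι : C → {i // i ∈ cand} × A.cent (conjWord w₀ :: tws) := fun c =>
    (orb c, ⟨((Function.invFun orb (orb c) : C) : G)⁻¹ * c,
      hfib _ _ (Function.invFun_eq ⟨c, rfl⟩)⟩)
  have hι : Function.Injective ι := by
    intro a b hab
    have h1 : orb a = orb b := congrArg Prod.fst hab
    have h2 := congrArg (fun z : {i // i ∈ cand} × A.cent (conjWord w₀ :: tws) => (z.2 : G)) hab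
    simp only [ι, h1, mul_right_inj] at h2
    exact Subtype.ext h2
  calc Nat.card C ≤ Nat.card ({i // i ∈ cand} × A.cent (conjWord w₀ :: tws)) :=
        Nat.card_le_card_of_injective ι hι
    _ = Nat.card {i // i ∈ cand} * Nat.card (A.cent (conjWord w₀ :: tws)) := Nat.card_prod _ _
    _ ≤ _ := by
        refine Nat.mul_le_mul_right _ ?_
        rw [← Nat.card_congr (Equiv.subtypeEquivRight fun i => List.mem_toFinset (a := i) (l := cand)),
          Nat.card_eq_fintype_card, Fintype.card_coe]
        exact List.toFinset_card_le _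

/-- Enough products of the frame exhaust a centraliser containing its elements. -/
theorem cent_cases_of_card {fg : List ℕ} {aux : List (List ℕ)}
    (hframe : frameOK A.Z A.k A.pts fg aux = true) {sw : List (List ℕ)}
    (hsub : ∀ w ∈ frameWords fg aux, wordVal A.x w ∈ A.cent sw) {L : List Entry}
    (hinc : incB (L.map Entry.code) = true) (hlen : Nat.card (A.cent sw) ≤ L.length)
    {ps : List ℕ} (hps : ∀ p ∈ ps, p < n)
    (hL : ∀ e ∈ L, entryOK A.Z A.k n (frameWords fg aux) ps e = true)
    {t : G} (ht : t ∈ A.cent sw) :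
    t = 1 ∨ IsConj A.d t ∨
      ∃ a : G, (t * (a * t * a⁻¹)) ^ 2 ≠ 1 ∧ (t * (a * t * a⁻¹)) ^ 3 ≠ 1 := by
  set tws := frameWords fg aux
  have hw : ∀ w ∈ tws, ∀ g ∈ w, g < A.k := fun w hwm => (A.frame_word hframe hwm).1
  have hprod : ∀ e ∈ L, (∀ g ∈ prodWord tws e.s, g < A.k) ∧
      wordVal A.x (prodWord tws e.s) ∈ A.cent sw := by
    intro e he
    have he' := hL e he
    simp only [entryOK, Bool.and_eq_true, List.all_eq_true, Nat.blt_eq, and_assoc] at he'
    have hall : ∀ j ∈ e.s, tws.getD j [] ∈ tws := fun j hj => by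
      rw [List.getD_eq_getElem _ _ (he'.1 j hj)]
      exact List.getElem_mem _
    generalize e.s = s at hall
    induction s with
    | nil => exact ⟨by simp [prodWord], one_mem _⟩
    | cons j s ih =>
      obtain ⟨h1, h2⟩ := ih fun i hi => hall i (by simp [hi])
      have hj := hall j (by simp)
      rw [show prodWord tws (j :: s) = tws.getD j [] ++ prodWord tws s from rfl]
      refine ⟨fun g hg => ?_, ?_⟩
      · rcases List.mem_append.1 hg with hg | hg
        exacts [hw _ hj g hg, h1 g hg]
      · rw [wordVal_append]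
        exact mul_mem h2 (hsub _ hj)
  let val : Fin L.length → A.cent sw := fun i =>
    ⟨_, (hprod L[i.1] (List.getElem_mem i.2)).2⟩
  have hval : Function.Injective val := by
    intro i j hij
    have heq : wordVal A.x (prodWord tws L[i.1].s) = wordVal A.x (prodWord tws L[j.1].s) :=
      congrArg Subtype.val hij
    have hcode : L[i.1].code = L[j.1].code := by
      have hi := hL L[i.1] (List.getElem_mem i.2)
      have hj := hL L[j.1] (List.getElem_mem j.2)
      simp only [entryOK, Bool.and_eq_true, Nat.beq_eq, and_assoc] at hi hj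
      rw [← hi.2.1, ← hj.2.1]
      have : ∀ (qs : List ℕ), (∀ p ∈ qs, p < n) →
          codeOf A.Z A.k n (prodWord tws L[i.1].s) qs = codeOf A.Z A.k n (prodWord tws L[j.1].s) qs := by
        intro qs
        induction qs with
        | nil => intro _; rfl
        | cons p qs ih =>
          intro h
          have hp : p < n := h p (by simp)
          rw [codeOf, codeOf, ih fun a ha => h a (by simp [ha]),
            ← A.walk_apply (hprod L[i.1] (List.getElem_mem i.2)).1 ⟨p, hp⟩,
            ← A.walk_apply (hprod L[j.1] (List.getElem_mem j.2)).1 ⟨p, hp⟩, heq]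
      exact this ps hps
    have hnd : (L.map Entry.code).Nodup := (incB_pairwise hinc).imp fun h => Nat.ne_of_lt h
    exact Fin.ext ((hnd.getElem_inj_iff (hi := by simp) (hj := by simp)).1 (by simpa using hcode))
  have hbij := hval.bijective_of_nat_card_le (by rw [Nat.card_fin]; exact hlen)
  obtain ⟨i, hi⟩ := hbij.2 ⟨t, ht⟩
  have hti : wordVal A.x (prodWord tws L[i.1].s) = t := congrArg Subtype.val hi
  have he := hL L[i.1] (List.getElem_mem i.2)
  have hpw := (hprod L[i.1] (List.getElem_mem i.2)).1
  generalize L[i.1] = e at hti he hpw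
  simp only [entryOK, Bool.and_eq_true, Bool.or_eq_true, List.all_eq_true, Nat.blt_eq, Nat.ble_eq,
    Bool.not_eq_true', and_assoc] at he
  obtain ⟨hs, -, he⟩ := he
  rcases he with he | ⟨hg, h2, h3, hn2, hn3⟩
  · match hs' : e.s, he with
    | [], _ => exact Or.inl (by rw [← hti, hs']; rfl)
    | [j], _ =>
      right; left
      have hj : tws.getD j [] ∈ tws := by
        rw [List.getD_eq_getElem _ _ (hs j (by simp [hs']))]
        exact List.getElem_mem _
      obtain ⟨p, hp, -⟩ := (A.frame_word hframe hj).2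
      rw [A.isConj_iff_exists]
      exact ⟨p, by rw [hp, ← hti, hs']; simp [prodWord]⟩
    | _ :: _ :: _, h => simp at h
  · right; right
    refine ⟨wordVal A.x e.a, ?_, ?_⟩ <;>
    · intro h
      have hval' : ∀ m, wordVal A.x (pairWord (prodWord tws e.s) e.a m) =
          (t * (wordVal A.x e.a * t * (wordVal A.x e.a)⁻¹)) ^ m := by
        intro m
        rw [pairWord, wordVal_replicate', wordVal_append, wordVal_append, wordVal_append,
          wordVal_reverse A.sq, hti]
        simp [mul_assoc]
      have hlt : ∀ m, ∀ g ∈ pairWord (prodWord tws e.s) e.a m, g < A.k := by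
        intro m g hg'
        simp only [pairWord, List.mem_flatten, List.mem_replicate] at hg'
        obtain ⟨u, ⟨-, rfl⟩, hg'⟩ := hg'
        simp only [List.mem_append, List.mem_reverse] at hg'
        rcases hg' with ((h' | h') | h') | h'
        exacts [hg g h', hpw g h', hg g h', hpw g h']
      first
      | (have := A.walk_apply (hlt 2) ⟨e.p₂, h2⟩
         rw [hval', h, map_one] at this
         simp [← this] at hn2)
      | (have := A.walk_apply (hlt 3) ⟨e.p₃, h3⟩
         rw [hval', h, map_one] at this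
         simp [← this] at hn3)

/-- The frame centralises the products of its pairs. -/
theorem frame_mem_cent_squares {fg : List ℕ} {aux : List (List ℕ)}
    (hframe : frameOK A.Z A.k A.pts fg aux = true) {us : List (List ℕ)} {pairs : List SwapPair}
    (hswap : swapsOK A.Z A.k us (framePts A.Z A.k A.pts fg aux) pairs = true)
    {prods : List (List ℕ)} (hprods : prods.all (fun s => s.all fun l => Nat.blt l pairs.length) = true)
    {w : List ℕ} (hw : w ∈ frameWords fg aux) :
    wordVal A.x w ∈ A.cent (squareWords (frameWords fg aux) pairs prods) := by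
  simp only [swapsOK, Bool.and_eq_true, List.all_eq_true, Nat.blt_eq, and_assoc] at hswap
  simp only [List.all_eq_true, Nat.blt_eq] at hprods
  have hlen : (framePts A.Z A.k A.pts fg aux).length = (frameWords fg aux).length := by
    simp [framePts, frameWords]
  refine A.mem_cent.2 fun v hv => ?_
  obtain ⟨s, hs, rfl⟩ := List.mem_map.1 hv
  have hs' := hprods s hs
  clear hs hv
  show Commute _ _
  induction s with
  | nil => simp [wordVal]
  | cons l s ih =>
    rw [List.flatMap_cons, wordVal_append]
    refine Commute.mul_left (ih fun i hi => hs' i (by simp [hi])) ?_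
    have hl := hs' l (by simp)
    rw [List.getD_eq_getElem _ _ hl, swapWord, wordVal_append]
    obtain ⟨-, hi, hj, -⟩ := hswap _ (List.getElem_mem hl)
    rw [hlen] at hi hj
    refine Commute.mul_left (A.frame_commute hframe ?_ hw) (A.frame_commute hframe ?_ hw)
    · rw [List.getD_eq_getElem _ _ hj]; exact List.getElem_mem _
    · rw [List.getD_eq_getElem _ _ hi]; exact List.getElem_mem _

/-- Automorphisms preserve the transpositions, when the class has two-part at most two. -/
theorem exists_delta_map_two
    (hidx : (Subgroup.centralizer ({A.d} : Set G)).index.factorization 2 ≤ 1) (hd1 : A.d ≠ 1)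
    (hD : Cfsg.IsThreeTranspositionClass (conjugatesOf A.d)) {fg : List ℕ} {aux : List (List ℕ)}
    (hframe : frameOK A.Z A.k A.pts fg aux = true) {us : List (List ℕ)}
    (hnorm : normOK A.Z A.k n us (framePts A.Z A.k A.pts fg aux) = true) {pairs : List SwapPair}
    (hswap : swapsOK A.Z A.k us (framePts A.Z A.k A.pts fg aux) pairs = true)
    {prods : List (List ℕ)} (hprods : prods.all (fun s => s.all fun l => Nat.blt l pairs.length) = true)
    (hcases : ∀ t ∈ A.cent (squareWords (frameWords fg aux) pairs prods), t = 1 ∨ IsConj A.d t ∨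
      ∃ a : G, (t * (a * t * a⁻¹)) ^ 2 ≠ 1 ∧ (t * (a * t * a⁻¹)) ^ 3 ≠ 1)
    (φ : G ≃* G) (p : Fin n) : ∃ q, A.delta q = φ (A.delta p) := by
  have : Fact (Nat.Prime 2) := ⟨Nat.prime_two⟩
  set tws := frameWords fg aux with htws
  set fps := framePts A.Z A.k A.pts fg aux with hfps
  simp only [normOK, Bool.and_eq_true, List.all_eq_true, Nat.blt_eq, and_assoc] at hnorm
  simp only [swapsOK, Bool.and_eq_true, List.all_eq_true, Nat.blt_eq, Nat.beq_eq, and_assoc] at hswap
  -- the frame and the involutions generate a two-group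
  set E := Subgroup.closure (wordVal A.x '' {w | w ∈ tws}) with hE
  set U := Subgroup.closure (wordVal A.x '' {u | u ∈ us}) with hU
  have htwo : ∀ X : Set G, (∀ x ∈ X, x * x = 1) → (∀ x ∈ X, ∀ y ∈ X, Commute x y) →
      IsPGroup 2 (Subgroup.closure X) := by
    intro X h1 h2
    have hsq : ∀ s ∈ Subgroup.closure X, s * s = 1 ∧ ∀ x ∈ X, Commute x s := by
      intro s hs
      induction hs using Subgroup.closure_induction with
      | mem y hy => exact ⟨h1 y hy, fun x hx => h2 x hx y hy⟩
      | one => exact ⟨one_mul 1, fun x _ => Commute.one_right x⟩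
      | mul y z hy hz iy iz =>
        refine ⟨?_, fun x hx => (iy.2 x hx).mul_right (iz.2 x hx)⟩
        have hyz : Commute y z := by
          have hc : Subgroup.closure X ≤ Subgroup.centralizer {z} := by
            rw [Subgroup.closure_le]
            exact fun x hx => Subgroup.mem_centralizer_singleton_iff.2 (iz.2 x hx)
          exact Subgroup.mem_centralizer_singleton_iff.1 (hc hy)
        calc y * z * (y * z) = y * (z * y) * z := by group
          _ = y * y * (z * z) := by rw [← hyz.eq]; group
          _ = 1 := by rw [iy.1, iz.1, one_mul]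
      | inv y _ iy => exact ⟨by rw [← mul_inv_rev, iy.1, inv_one], fun x hx => (iy.2 x hx).inv_right⟩
    exact fun s => ⟨1, Subtype.ext (by simpa [pow_two] using (hsq s.1 s.2).1)⟩
  have hdel : ∀ q, A.delta q * A.delta q = 1 := by
    intro q
    have h2 := hD.1.1 (A.delta q) ((A.isConj_iff_exists _).2 ⟨q, rfl⟩)
    rw [← pow_two, ← h2, pow_orderOf_eq_one]
  have hE2 : IsPGroup 2 E := by
    refine htwo _ ?_ ?_
    · rintro _ ⟨w, hw, rfl⟩
      obtain ⟨q, hq, -⟩ := (A.frame_word hframe hw).2
      rw [← hq]; exact hdel q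
    · rintro _ ⟨v, hv, rfl⟩ _ ⟨w, hw, rfl⟩
      exact A.frame_commute hframe hv hw
  have hwalk : ∀ {a : List ℕ}, (∀ g ∈ a, g < A.k) → ∀ {b : List ℕ}, (∀ g ∈ b, g < A.k) →
      (∀ i < n, twalk A.Z A.k a i = twalk A.Z A.k b i) → wordVal A.x a = wordVal A.x b := by
    intro a ha b hb h
    refine A.inj (Equiv.ext fun i => Fin.ext ?_)
    rw [A.walk_apply ha, A.walk_apply hb, h i.1 i.2]
  have hus : ∀ u ∈ us, ∀ v ∈ us, wordVal A.x u * wordVal A.x u = 1 ∧
      Commute (wordVal A.x u) (wordVal A.x v) := by
    intro u hu v hv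
    obtain ⟨hlu, -, h3⟩ := hnorm u hu
    have hlv := (hnorm v hv).1
    have hs := fun i (hi : i < n) =>
      scanOK_get (h3 v hv) i (Nat.zero_le _) (by omega) (condsB_iff.2 (by simp))
    simp only [Bool.and_eq_true, Nat.beq_eq] at hs
    have app : ∀ {a b : List ℕ}, (∀ g ∈ a, g < A.k) → (∀ g ∈ b, g < A.k) →
        ∀ g ∈ a ++ b, g < A.k := fun ha hb g hg => (List.mem_append.1 hg).elim (ha g) (hb g)
    constructor
    · rw [← wordVal_append]
      exact hwalk (app hlu hlu) (b := []) (by simp) (fun i hi => by rw [twalk_nil]; exact (hs i hi).1)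
    · show _ = _
      rw [← wordVal_append, ← wordVal_append]
      exact (hwalk (app hlu hlv) (app hlv hlu) fun i hi => (hs i hi).2).symm
  have hU2 : IsPGroup 2 U := by
    refine htwo _ ?_ ?_
    · rintro _ ⟨u, hu, rfl⟩
      exact (hus u hu u hu).1
    · rintro _ ⟨u, hu, rfl⟩ _ ⟨v, hv, rfl⟩
      exact (hus u hu v hv).2
  have hnE : U ≤ Subgroup.normalizer E := by
    rw [hU, Subgroup.closure_le]
    rintro _ ⟨u, hu, rfl⟩
    obtain ⟨hlu, hfix, -⟩ := hnorm u hu
    have hle : E.map (MulAut.conj (wordVal A.x u)).toMonoidHom ≤ E := by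
      rw [hE, MonoidHom.map_closure, Subgroup.closure_le]
      rintro _ ⟨_, ⟨w, hw, rfl⟩, rfl⟩
      obtain ⟨q, hqd, hq⟩ := (A.frame_word hframe hw).2
      obtain ⟨i, hi, he⟩ := List.getElem_of_mem (elemN_iff.1 (hfix q.1 hq))
      have hi' : i < tws.length := by simpa [htws, hfps, framePts, frameWords] using hi
      obtain ⟨hlt, hd⟩ := A.frame_getD hframe hi'
      refine Subgroup.subset_closure ⟨tws.getD i [], ?_, ?_⟩
      · show tws.getD i [] ∈ tws
        rw [List.getD_eq_getElem _ _ hi']; exact List.getElem_mem _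
      · rw [← hd, MulEquiv.coe_toMonoidHom, MulAut.conj_apply, ← hqd, ← A.delta_apply]
        refine congrArg A.delta (Fin.ext ?_)
        rw [A.walk_apply hlu]
        show fps.getD i 0 = _
        rw [List.getD_eq_getElem _ _ hi, he]
    have hsurj : E.map (MulAut.conj (wordVal A.x u)).toMonoidHom = E :=
      Subgroup.eq_of_le_of_card_ge hle
        (by rw [Subgroup.card_map_of_injective (MulAut.conj (wordVal A.x u)).injective])
    rw [SetLike.mem_coe, Subgroup.mem_normalizer_iff]
    intro h
    constructor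
    · intro hh
      exact hle ⟨h, hh, rfl⟩
    · intro hh
      obtain ⟨h', hh', he⟩ := (hsurj.ge hh : _ ∈ E.map _)
      rwa [← (MulAut.conj (wordVal A.x u)).injective he]
  have hQ : IsPGroup 2 (E ⊔ U : Subgroup G) := hE2.to_sup_of_normal_left' hU2 hnE
  -- squares lie in a conjugate of the centraliser of the image
  set t := φ A.d
  set Ct := Subgroup.centralizer ({t} : Set G) with hCt
  have hidx' : Ct.index = (Subgroup.centralizer ({A.d} : Set G)).index := by
    have : (Subgroup.centralizer ({A.d} : Set G)).map φ.toMonoidHom = Ct := by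
      ext z
      rw [Subgroup.mem_map_equiv, Subgroup.mem_centralizer_singleton_iff,
        Subgroup.mem_centralizer_singleton_iff, ← φ.injective.eq_iff, map_mul, map_mul,
        MulEquiv.apply_symm_apply]
    rw [← this]
    exact (Subgroup.index_map_equiv _ φ)
  let P₀ : Sylow 2 Ct := default
  set P₀' := (P₀ : Subgroup Ct).map Ct.subtype with hP₀'
  obtain ⟨Q, hQle⟩ := (P₀.isPGroup'.map Ct.subtype).exists_le_sylow
  have hrel : (P₀'.subgroupOf (Q : Subgroup G)).index = 1 ∨
      (P₀'.subgroupOf (Q : Subgroup G)).index = 2 := by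
    have h1 := (P₀'.subgroupOf (Q : Subgroup G)).card_mul_index
    rw [Nat.card_congr (Subgroup.subgroupOfEquivOfLe hQle).toEquiv, hP₀',
      Subgroup.card_map_of_injective Ct.subtype_injective, P₀.card_eq_multiplicity,
      Q.card_eq_multiplicity, ← Ct.card_mul_index,
      Nat.factorization_mul Nat.card_pos.ne' Subgroup.index_ne_zero_of_finite, Finsupp.add_apply,
      pow_add] at h1
    have h2 := Nat.eq_of_mul_eq_mul_left (Nat.two_pow_pos _) h1
    rw [hidx'] at h2
    rcases Nat.le_one_iff_eq_zero_or_eq_one.1 hidx with h | h <;> rw [h] at h2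
    · exact Or.inl h2
    · exact Or.inr h2
  obtain ⟨P, hP⟩ := hQ.exists_le_sylow
  obtain ⟨g, hg⟩ := MulAction.exists_smul_eq G P Q
  have hsq : ∀ x ∈ (E ⊔ U : Subgroup G), Commute (x * x) (g⁻¹ * t * g) := by
    intro x hx
    have h1 : g * x * g⁻¹ ∈ (Q : Subgroup G) := by
      rw [← hg]
      exact ⟨x, hP hx, rfl⟩
    have h2 : (⟨_, h1⟩ : (Q : Subgroup G)) ^ 2 ∈ P₀'.subgroupOf (Q : Subgroup G) := by
      rcases hrel with h | h
      · rw [Subgroup.index_eq_one.1 h]; exact Subgroup.mem_top _
      · exact Subgroup.sq_mem_of_index_two h _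
    rw [Subgroup.mem_subgroupOf, hP₀', SubgroupClass.coe_pow] at h2
    obtain ⟨c, -, hc⟩ := h2
    have h3 : g * (x * x) * g⁻¹ * t = t * (g * (x * x) * g⁻¹) := by
      have e : g * (x * x) * g⁻¹ = (g * x * g⁻¹) ^ 2 := by rw [conj_pow, pow_two]
      rw [e, ← hc]
      exact Subgroup.mem_centralizer_singleton_iff.1 c.2
    calc x * x * (g⁻¹ * t * g) = g⁻¹ * (g * (x * x) * g⁻¹ * t) * g := by group
      _ = g⁻¹ * (t * (g * (x * x) * g⁻¹)) * g := by rw [h3]
      _ = g⁻¹ * t * g * (x * x) := by group
  have ht' : g⁻¹ * t * g ∈ A.cent (squareWords tws pairs prods) := by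
    refine A.mem_cent.2 fun v hv => ?_
    obtain ⟨s, hs, rfl⟩ := List.mem_map.1 hv
    have hs' : ∀ l ∈ s, l < pairs.length := fun l hl => by
      simpa using List.all_eq_true.1 (List.all_eq_true.1 hprods s hs) l hl
    clear hs hv
    show Commute _ _
    induction s with
    | nil => simp [wordVal]
    | cons l s ih =>
      rw [List.flatMap_cons, wordVal_append]
      refine Commute.mul_left (ih fun i hi => hs' i (by simp [hi])) ?_
      have hl := hs' l (by simp)
      rw [List.getD_eq_getElem _ _ hl, swapWord, wordVal_append]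
      obtain ⟨hu, hi, hj, hmove⟩ := hswap _ (List.getElem_mem hl)
      generalize pairs[l] = e at hu hi hj hmove ⊢
      have hi' : e.i < tws.length := by simpa [htws, hfps, framePts, frameWords] using hi
      have hj' : e.j < tws.length := by simpa [htws, hfps, framePts, frameWords] using hj
      obtain ⟨hli, hdi⟩ := A.frame_getD hframe hi'
      obtain ⟨hlj, hdj⟩ := A.frame_getD hframe hj'
      rw [List.getD_eq_getElem _ _ hu] at hmove
      have humem := List.getElem_mem hu
      set z := wordVal A.x us[e.u]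
      set di := wordVal A.x (tws.getD e.i [])
      set dj := wordVal A.x (tws.getD e.j [])
      have hzz : z * z = 1 := (hus _ humem _ humem).1
      have hzd : z * di * z = dj := by
        have h1 := A.delta_apply z ⟨_, hli⟩
        rw [hdi, inv_eq_of_mul_eq_one_left hzz] at h1
        rw [← h1, ← hdj]
        refine congrArg A.delta (Fin.ext ?_)
        rw [A.walk_apply (hnorm _ humem).1]
        exact hmove
      have hmemi : tws.getD e.i [] ∈ tws := by
        rw [List.getD_eq_getElem _ _ hi']; exact List.getElem_mem _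
      have hmemj : tws.getD e.j [] ∈ tws := by
        rw [List.getD_eq_getElem _ _ hj']; exact List.getElem_mem _
      have hsquare : di * z * (di * z) = dj * di := by
        rw [← (A.frame_commute hframe hmemi hmemj).eq]
        show _ = di * dj
        rw [← hzd]
        group
      rw [← hsquare]
      refine hsq _ (mul_mem (Subgroup.mem_sup_left ?_) (Subgroup.mem_sup_right ?_))
      · exact Subgroup.subset_closure ⟨_, hmemi, rfl⟩
      · exact Subgroup.subset_closure ⟨_, humem, rfl⟩
  obtain ⟨p', rfl⟩ := A.trans p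
  rw [A.delta_move, ← A.isConj_iff_exists]
  have hto : IsConj (g⁻¹ * t * g) (φ (p' * A.d * p'⁻¹)) :=
    isConj_iff.2 ⟨φ p' * g, by simp only [map_mul, map_inv, t]; group⟩
  rcases hcases _ ht' with h | h | ⟨a, h2, h3⟩
  · exfalso
    apply hd1
    have : t = 1 := by
      calc t = g * (g⁻¹ * t * g) * g⁻¹ := by group
        _ = 1 := by rw [h]; group
    exact φ.injective (this.trans φ.map_one.symm)
  · exact h.trans hto
  · exfalso
    have hmem : ∀ b : G, ∃ e ∈ conjugatesOf A.d, φ e = b * t * b⁻¹ := fun b =>
      ⟨φ.symm b * A.d * (φ.symm b)⁻¹, isConj_iff.2 ⟨_, rfl⟩, by simp [t]⟩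
    obtain ⟨e₁, he1, he1'⟩ := hmem g⁻¹
    obtain ⟨e₂, he2, he2'⟩ := hmem (a * g⁻¹)
    have h := hD.1.2 e₁ he1 e₂ he2
    have hh : φ (e₁ * e₂) = g⁻¹ * t * g * (a * (g⁻¹ * t * g) * a⁻¹) := by
      rw [map_mul, he1', he2']; group
    rcases h with h | h
    · exact h2 (by rw [← hh, ← map_pow, h, map_one])
    · exact h3 (by rw [← hh, ← map_pow, h, map_one])

end TransTable

end Cfsg.Lib.CosetEnum
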