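import Cfsg.Agent.Lib.CosetEnum.Trans.Inner
import Cfsg.Agent.Lib.CosetEnum.Trans.DefsTwo
import Mathlib.GroupTheory.Perm.Cycle.Type
import Mathlib.GroupTheory.Subgroup.Simple

/-!
# An outer automorphism given by an odd map of the points
-/

set_option autoImplicit false

namespace Cfsg.Lib.CosetEnum

theorem fixCount_eq (Pi : Tab) : ∀ m : ℕ,
    fixCount Pi m = ((Finset.range m).filter fun j => Pi.getP j = j).card
  | 0 => by simp [fixCount]
  | m + 1 => by
    rw [fixCount, fixCount_eq Pi m, Finset.range_add_one, Finset.filter_insert]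
    by_cases h : Pi.getP m = m
    · rw [if_pos h, Finset.card_insert_of_notMem (by simp), (show Nat.beq (Pi.getP m) m = true by rw [Nat.beq_eq]; exact h), cond_true, add_comm]
    · rw [if_neg h]
      cases hb : Nat.beq (Pi.getP m) m
      · simp
      · exact absurd (Nat.eq_of_beq_eq_true hb) h

/-- The sign of an involution with the given number of fixed points. -/
theorem sign_involution {n : ℕ} (π : Equiv.Perm (Fin n)) (h2 : π * π = 1) {m : ℕ}
    (hm : Odd m) (hcard : ((Finset.univ.filter fun i => π i = i) : Finset (Fin n)).card + 2 * m = n) :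
    Equiv.Perm.sign π = -1 := by
  have hsupp : π.support.card = 2 * m := by
    have h := Finset.card_filter_add_card_filter_not (s := (Finset.univ : Finset (Fin n))) (fun i => π i = i)
    rw [Finset.card_univ, Fintype.card_fin] at h
    have : (Finset.univ.filter fun i => ¬ π i = i) = π.support := by ext i; simp
    rw [this] at h
    omega
  have hne : π ≠ 1 := fun h => by
    have := hm.pos
    simp [h] at hsupp
    omega
  have hord : orderOf π = 2 :=
    orderOf_eq_prime (p := 2) (hp := ⟨Nat.prime_two⟩) (by rw [pow_two, h2]) hne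
  obtain ⟨c, hc⟩ := Equiv.Perm.cycleType_prime_order (σ := π) (hord ▸ Nat.prime_two)
  have hsum := π.sum_cycleType
  rw [hc, hord, Multiset.sum_replicate, smul_eq_mul, hsupp] at hsum
  rw [Equiv.Perm.sign_of_cycleType, hc, hord, Multiset.sum_replicate, Multiset.card_replicate,
    smul_eq_mul, show (c + 1) * 2 + (c + 1) = 2 * (c + 1) + m by omega, pow_add, pow_mul]
  simp [hm.neg_one_pow]

namespace TransTable

variable {G : Type*} [Group G] [Finite G] {n : ℕ} (A : TransTable G n)

/-- A table of points gives an automorphism moving the transpositions along. -/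
theorem exists_twist {Pi : Tab} {sub : List (List ℕ)} (hn : 0 < n)
    (hok : twistOK A.Z Pi A.k n sub = true) (hp₀ : Pi.getP A.p₀.1 = A.p₀.1)
    {g₀ : ℕ} (hg₀ : g₀ < A.k) (hd : A.d = A.x g₀) (hsub : sub.getD g₀ [] = [g₀]) :
    ∃ (σ : MulAut G) (π : Equiv.Perm (Fin n)), (∀ p, (π p).1 = Pi.getP p.1) ∧
      ∀ p, A.delta (π p) = σ (A.delta p) := by
  simp only [twistOK, Bool.and_eq_true, List.all_eq_true, Nat.blt_eq] at hok
  obtain ⟨hlet, hscan⟩ := hok
  have hs := fun (i : Fin n) =>
    scanOK_get hscan i.1 (Nat.zero_le _) (by omega) (condsB_iff.2 (by simp))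
  simp only [force_eq, Bool.and_eq_true, List.all_eq_true, List.mem_range, Nat.blt_eq, Nat.beq_eq,
    and_assoc] at hs
  let π : Equiv.Perm (Fin n) := Function.Involutive.toPerm (fun i => ⟨Pi.getP i.1, (hs i).1⟩)
    (fun i => Fin.ext (hs i).2.1)
  have hπ : ∀ p, (π p).1 = Pi.getP p.1 := fun p => rfl
  have hlt : ∀ g, ∀ l ∈ sub.getD g [], l < A.k := fun g l hl => by
    by_cases h : g < sub.length
    · rw [List.getD_eq_getElem _ _ h] at hl
      exact hlet _ (List.getElem_mem h) l hl
    · rw [List.getD_eq_default _ _ (by omega)] at hl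
      simp at hl
  have hint : ∀ g < A.k, π * A.f (A.x g) * π⁻¹ = A.f (wordVal A.x (sub.getD g [])) := by
    intro g hg
    rw [mul_inv_eq_iff_eq_mul]
    refine Equiv.ext fun i => Fin.ext ?_
    rw [Equiv.Perm.mul_apply, Equiv.Perm.mul_apply, hπ, A.img_apply hg, A.walk_apply (hlt g), hπ]
    exact (hs i).2.2 g hg
  have hrange : ∀ a : G, π * A.f a * π⁻¹ ∈ A.f.range := by
    intro a
    have hle : (⊤ : Subgroup G) ≤ A.f.range.comap ((MulAut.conj π).toMonoidHom.comp A.f) := by
      rw [← A.gen, Subgroup.closure_le]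
      rintro _ ⟨g, hg, rfl⟩
      exact ⟨_, (hint g hg).symm⟩
    exact hle (Subgroup.mem_top a)
  let e := MonoidHom.ofInjective A.inj
  let h : G →* G := e.symm.toMonoidHom.comp
    (((MulAut.conj π).toMonoidHom.comp A.f).codRestrict A.f.range hrange)
  have hf : ∀ a, A.f (h a) = π * A.f a * π⁻¹ := by
    intro a
    have := congrArg Subtype.val (e.apply_symm_apply ⟨_, hrange a⟩)
    exact this
  have hinj : Function.Injective h := by
    intro a b hab
    have := congrArg A.f hab
    rw [hf, hf, mul_left_inj, mul_right_inj] at this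
    exact A.inj this
  let σ : MulAut G := MulEquiv.ofBijective h (Finite.injective_iff_bijective.1 hinj)
  refine ⟨σ, π, hπ, fun p => ?_⟩
  have hσd : h A.d = A.d := A.inj <| by
    rw [hf, hd, hint g₀ hg₀, hsub, A.wordVal_singleton hg₀]
  obtain ⟨c, rfl⟩ := A.trans p
  have hmove : π (A.f c A.p₀) = A.f (h c) A.p₀ := by
    have : π A.p₀ = A.p₀ := Fin.ext ((hπ _).trans hp₀)
    rw [hf, Equiv.Perm.mul_apply, Equiv.Perm.mul_apply, Equiv.Perm.inv_def,
      show π.symm A.p₀ = A.p₀ from (Equiv.symm_apply_eq _).2 this.symm]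
  rw [hmove, A.delta_move, A.delta_move]
  show _ = h (c * A.d * c⁻¹)
  rw [map_mul, map_mul, map_inv, hσd]

/-- An odd map of the points is not induced by the group. -/
theorem twist_not_inn [IsSimpleGroup G] (hbig : 2 < Nat.card G) {σ : MulAut G}
    {π : Equiv.Perm (Fin n)} (hπ : ∀ p, A.delta (π p) = σ (A.delta p))
    (hodd : Equiv.Perm.sign π = -1) : σ ∉ Cfsg.Inn G := by
  rintro ⟨a, ha⟩
  have hfa : π = A.f a := by
    refine Equiv.ext fun p => A.delta_injective ?_
    rw [hπ, A.delta_apply, ← ha]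
    rfl
  let s : G →* ℤˣ := Equiv.Perm.sign.comp A.f
  rcases s.normal_ker.eq_bot_or_eq_top with h | h
  · have h1 := Nat.card_le_card_of_injective s ((MonoidHom.ker_eq_bot_iff s).1 h)
    rw [show Nat.card ℤˣ = 2 by simp] at h1
    omega
  · have h1 : s a = 1 := MonoidHom.mem_ker.1 (h ▸ Subgroup.mem_top a)
    simp only [s, MonoidHom.comp_apply, ← hfa, hodd] at h1
    exact absurd h1 (by decide)

/-- Removing the twist from a state. -/
theorem state_twist {σ : MulAut G} {π : Equiv.Perm (Fin n)}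
    (hπ : ∀ p, A.delta (π p) = σ (A.delta p)) {τ : ℕ → Fin n} {prev prev' : List (ℕ × ℕ)}
    (hmap : ∀ e ∈ prev', ∃ g, (e.1, g) ∈ prev ∧ ∀ p : Fin n, p.1 = A.pts.getD g 0 →
      (π.symm p).1 = A.pts.getD e.2 0)
    (hst : A.State τ prev) : A.State (fun r => π.symm (τ r)) prev' := by
  obtain ⟨a, ha⟩ := hst
  refine ⟨σ.symm a, fun e he => ?_⟩
  obtain ⟨g, hg, hg'⟩ := hmap e he
  have h1 : ∀ q, A.delta (π.symm q) = σ.symm (A.delta q) := fun q => by
    have := hπ (π.symm q)
    rw [Equiv.apply_symm_apply] at this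
    rw [this, MulEquiv.symm_apply_apply]
  have h2 : A.f (σ.symm a) (π.symm (τ e.1)) = π.symm (A.f a (τ e.1)) := by
    apply A.delta_injective
    rw [A.delta_apply, h1, h1, A.delta_apply, map_mul, map_mul, map_inv]
  rw [h2]
  exact hg' _ (ha (e.1, g) hg)

/-- Two roles with a single candidate. -/
theorem leaf_false_pair (φ : G ≃* G) {τ : ℕ → Fin n} (hτ : ∀ r < A.k, A.delta (τ r) = φ (A.x r))
    {prev : List (ℕ × ℕ)} {r s c : ℕ} (hr : r < A.k) (hs : s < A.k)
    (hne : A.pts.getD r 0 ≠ A.pts.getD s 0)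
    (hprev : prev.all (fun hg => Nat.blt hg.1 A.k && Nat.blt hg.2 A.k) = true)
    (hscanr : scanOK A.Z A.k (roleConds A.Z A.k A.pts prev r) (elemN [c]) n 0 = true)
    (hscans : scanOK A.Z A.k (roleConds A.Z A.k A.pts prev s) (elemN [c]) n 0 = true)
    (hst : A.State τ prev) : False := by
  obtain ⟨a, ha⟩ := hst
  simp only [List.all_eq_true, Bool.and_eq_true, Nat.blt_eq] at hprev
  have h1 := scanOK_get hscanr _ (Nat.zero_le _) (by omega) (A.roleConds_hold φ hτ hr hprev ha)
  have h2 := scanOK_get hscans _ (Nat.zero_le _) (by omega) (A.roleConds_hold φ hτ hs hprev ha)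
  rw [elemN_iff, List.mem_singleton] at h1 h2
  have h3 := congrArg A.delta ((A.f a).injective (Fin.ext (h1.trans h2.symm)))
  rw [hτ _ hr, hτ _ hs, φ.injective.eq_iff, ← A.delta_pts hr, ← A.delta_pts hs] at h3
  exact hne (congrArg Fin.val (A.delta_injective h3))

end TransTable

/-- The quotient by inner automorphisms has order two. -/
theorem card_out_eq_two {G : Type*} [Group G] {σ : MulAut G} (hσ : σ ∉ Cfsg.Inn G)
    (h : ∀ φ : MulAut G, φ ∈ Cfsg.Inn G ∨ σ⁻¹ * φ ∈ Cfsg.Inn G) :
    Nat.card (Cfsg.Out G) = 2 := by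
  show Nat.card (MulAut G ⧸ Cfsg.Inn G) = 2
  rw [Nat.card_eq_two_iff' (QuotientGroup.mk 1)]
  refine ⟨QuotientGroup.mk σ, fun e => hσ (by simpa using (QuotientGroup.eq.1 e.symm)), ?_⟩
  intro y hy
  obtain ⟨φ, rfl⟩ := QuotientGroup.mk_surjective y
  rcases h φ with h1 | h1
  · exact absurd (QuotientGroup.eq.2 (by simpa using h1)).symm hy
  · exact (QuotientGroup.eq.2 h1).symm

end Cfsg.Lib.CosetEnum
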