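import Cfsg.Agent.Lib.CosetEnum.Trans.Defs

/-!
# Checks of equality of two words by the points of the generators
-/

set_option autoImplicit false

namespace Cfsg.Lib.CosetEnum

/-- Two words move the points of the generators alike. -/
noncomputable def sameOK (Z : Tab) (k : Nat) (pts : List Nat) (u v : List Nat) : Bool :=
  (u.all fun g => Nat.blt g k) && (v.all fun g => Nat.blt g k) &&
    (List.range k).all fun g => Nat.beq (twalk Z k u (pts.getD g 0)) (twalk Z k v (pts.getD g 0))

/-- Conjugates of one generator by words in some others, one after another. -/
def conjProd (sub : List (List Nat)) (r : Nat) (us : List (List Nat)) : List Nat :=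
  us.flatMap fun s => (prodWord sub s).reverse ++ [r] ++ prodWord sub s

end Cfsg.Lib.CosetEnum
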