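import Cfsg.Agent.Lib.CosetEnum.Trans.Basic
import Cfsg.Agent.Lib.CosetEnum.Trans.DefsSame

/-!
# Equal values of words from the points of the generators
-/

set_option autoImplicit false

namespace Cfsg.Lib.CosetEnum.TransTable

variable {G : Type*} [Group G] {n : ℕ} (A : TransTable G n)

/-- Words moving the points of the generators alike have equal values. -/
theorem eq_of_sameOK (hc : Subgroup.center G = ⊥) {u v : List ℕ}
    (h : sameOK A.Z A.k A.pts u v = true) : wordVal A.x u = wordVal A.x v := by
  simp only [sameOK, Bool.and_eq_true, List.all_eq_true, Nat.blt_eq, Nat.beq_eq, List.mem_range,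
    and_assoc] at h
  obtain ⟨hu, hv, h⟩ := h
  have hmem := A.mem_center_of_fix (c := (wordVal A.x v)⁻¹ * wordVal A.x u) fun g hg => by
    have e : A.f (wordVal A.x u) ⟨A.pts.getD g 0, A.pts_lt hg⟩ =
        A.f (wordVal A.x v) ⟨A.pts.getD g 0, A.pts_lt hg⟩ := Fin.ext <| by
      rw [A.walk_apply hu, A.walk_apply hv]
      exact h g hg
    rw [map_mul, map_inv, Equiv.Perm.mul_apply, e, Equiv.Perm.inv_def, Equiv.symm_apply_apply]
  rw [hc, Subgroup.mem_bot, inv_mul_eq_one] at hmem
  exact hmem.symm

end Cfsg.Lib.CosetEnum.TransTable
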