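import Cfsg.Agent.Lib.CosetEnum.Trans.Lifts

/-!
# Central extensions with a bounded kernel in the derived subgroup
-/

set_option autoImplicit false

open scoped commutatorElement

namespace Cfsg.Lib.CosetEnum

/-- A subgroup embedded in a cyclic group of order dividing `n` is an image of it. -/
theorem exists_surjective_zmod {n : ℕ} {E Q : Type*} [Group E] [Group Q] (H : Subgroup E) (ι : E →* Q)
    (hι : Function.Injective ι) {g : Q} (hg : g ^ n = 1) (hn : 0 < n)
    (hH : ∀ e ∈ H, ι e ∈ Subgroup.zpowers g) :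
    ∃ p : Multiplicative (ZMod n) →* H, Function.Surjective p := by
  have hfin : IsOfFinOrder g := isOfFinOrder_iff_pow_eq_one.2 ⟨n, hn, hg⟩
  have : Finite (Subgroup.zpowers g) :=
    Nat.finite_of_card_ne_zero (by rw [Nat.card_zpowers]; exact hfin.orderOf_pos.ne')
  let f : H →* Subgroup.zpowers g := (ι.comp H.subtype).codRestrict _ fun e => hH e.1 e.2
  have hf : Function.Injective f := fun a b h => Subtype.ext (hι (congrArg Subtype.val h))
  have hcyc : IsCyclic H := isCyclic_of_injective f hf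
  have hdvd : Nat.card H ∣ n :=
    (Subgroup.card_dvd_of_injective f hf).trans (by rw [Nat.card_zpowers]; exact orderOf_dvd_of_pow_eq_one hg)
  let q : ZMod n →+* ZMod (Nat.card H) := ZMod.castHom hdvd _
  refine ⟨(zmodCyclicMulEquiv hcyc).toMonoidHom.comp (AddMonoidHom.toMultiplicative q.toAddMonoidHom),
    (zmodCyclicMulEquiv hcyc).surjective.comp ?_⟩
  intro x
  obtain ⟨y, hy⟩ := ZMod.ringHom_surjective q (Multiplicative.toAdd x)
  exact ⟨Multiplicative.ofAdd y, by
    show Multiplicative.ofAdd (q y) = x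
    rw [hy]; rfl⟩

namespace TransTable

variable {G : Type} [Group G] {n : ℕ} (A : TransTable G n)

/-- The kernel of a central extension with lifts meets the derived subgroup inside a subgroup
modulo which the twisted lifts satisfy the relators. -/
theorem ker_commutator_le {Q : Type} [Group Q] {π : Q →* G} (hπ : π.ker ≤ Subgroup.center Q)
    (L : A.Lifts π) {K : Subgroup Q} (hK : K ≤ π.ker) {R : List (List ℕ)}
    (hpres : ∀ (M : Type) [Group M] (y : ℕ → M), (∀ g, y g * y g = 1) →
      (∀ r ∈ R, wordVal y r = 1) → ∃ s : G →* M, ∀ g < A.k, s (A.x g) = y g)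
    {F : Q} (hF : π F = 1) (hFK : F * F ∈ K)
    (hR : ∀ r ∈ R, (∀ g ∈ r, g < A.k) ∧ F ^ r.length * wordVal L.y r ∈ K) :
    π.ker ⊓ commutator Q ≤ K := by
  have hKc : K ≤ Subgroup.center Q := hK.trans hπ
  have : K.Normal := ⟨fun a ha u => by
    rw [Subgroup.mem_center_iff.1 (hKc ha) u, mul_inv_cancel_right]
    exact ha⟩
  let m := QuotientGroup.mk' K
  have hm : ∀ a ∈ K, m a = 1 := fun a ha => (QuotientGroup.eq_one_iff a).2 ha
  have hFc : F ∈ Subgroup.center Q := hπ hF
  obtain ⟨s, hs⟩ := hpres (Q ⧸ K) (fun g => m (F * L.y g)) (fun g => by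
    rw [← map_mul, show F * L.y g * (F * L.y g) = F * F by
      calc F * L.y g * (F * L.y g) = F * (L.y g * F) * L.y g := by group
        _ = F * F * (L.y g * L.y g) := by rw [Subgroup.mem_center_iff.1 hFc]; group
        _ = F * F := by rw [L.y_sq, mul_one]]
    exact hm _ hFK) (by
    intro r hr
    obtain ⟨hlt, hmem⟩ := hR r hr
    have hne : ∀ g ∈ r, g ≠ eps := fun g hg =>
      Nat.ne_of_lt (lt_of_lt_of_le (hlt g hg) A.k_le)
    rw [← map_wordVal m (fun g => F * L.y g) r, wordVal_mul_central hFc _ hne]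
    exact hm _ hmem)
  let π' : Q ⧸ K →* G := QuotientGroup.lift K π hK
  have hπs : π'.comp s = MonoidHom.id G := by
    refine MonoidHom.eq_of_eqOn_dense A.gen ?_
    rintro _ ⟨g, hg, rfl⟩
    show π' (s (A.x g)) = A.x g
    rw [hs g hg]
    show π (F * L.y g) = A.x g
    rw [map_mul, hF, one_mul, L.proj_y hg]
  have hcs : commutator Q ≤ s.range.comap m := by
    rw [commutator_def, Subgroup.commutator_le]
    intro a _ b _
    refine ⟨⁅π a, π b⁆, ?_⟩
    rw [map_commutatorElement, map_commutatorElement]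
    have hdec : ∀ q : Q, ∀ u : Q ⧸ K, u * ((m q)⁻¹ * s (π q)) = (m q)⁻¹ * s (π q) * u := by
      intro q u
      obtain ⟨u, rfl⟩ := QuotientGroup.mk'_surjective K u
      obtain ⟨z, hz⟩ := QuotientGroup.mk'_surjective K ((m q)⁻¹ * s (π q))
      have hzk : π z = 1 := by
        have := congrArg π' hz
        rw [map_mul, map_inv, show π' (s (π q)) = π q from DFunLike.congr_fun hπs (π q),
          show π' (m q) = π q from rfl, inv_mul_cancel] at this
        exact this
      rw [← hz, ← map_mul, ← map_mul, Subgroup.mem_center_iff.1 (hπ hzk) u]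
    generalize hu : (m a)⁻¹ * s (π a) = u
    generalize hv : (m b)⁻¹ * s (π b) = v
    have ea : s (π a) = m a * u := by rw [← hu]; group
    have eb : s (π b) = m b * v := by rw [← hv]; group
    have cu := fun t => hu ▸ hdec a t
    have cv := fun t => hv ▸ hdec b t
    rw [ea, eb, commutatorElement_def, commutatorElement_def, mul_inv_rev, mul_inv_rev]
    calc m a * u * (m b * v) * (u⁻¹ * (m a)⁻¹) * (v⁻¹ * (m b)⁻¹)
        = m a * (u * (m b * v)) * u⁻¹ * (m a)⁻¹ * v⁻¹ * (m b)⁻¹ := by group
      _ = m a * m b * (v * (m a)⁻¹) * v⁻¹ * (m b)⁻¹ := by rw [← cu]; group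
      _ = m a * m b * (m a)⁻¹ * (m b)⁻¹ := by rw [← cv]; group
  rintro a ⟨ha, ha'⟩
  obtain ⟨u, hu⟩ := hcs ha'
  have : u = 1 := by
    have h := congrArg π' hu
    rw [show π' (s u) = u from DFunLike.congr_fun hπs u] at h
    exact h.trans ha
  rw [this, map_one] at hu
  exact (QuotientGroup.eq_one_iff a).1 hu.symm

end TransTable

end Cfsg.Lib.CosetEnum
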