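import Cfsg.Agent.Lib.CosetEnum.Trans.Basic
import Cfsg.Prelude.Def_SporadicB

/-!
# Recognising a class of transpositions by a set of commuting members
-/

set_option autoImplicit false

namespace Cfsg.Lib.CosetEnum

theorem wordVal_replicate' {G : Type*} [Group G] (x : ℕ → G) (w : List ℕ) : ∀ m : ℕ,
    wordVal x (List.replicate m w).flatten = wordVal x w ^ m
  | 0 => by simp [wordVal]
  | m + 1 => by
    rw [List.replicate_succ, List.flatten_cons, wordVal_append, wordVal_replicate' x w m, pow_succ]

theorem incB_pairwise : ∀ {l : List ℕ}, incB l = true → l.Pairwise (· < ·)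
  | [], _ => List.Pairwise.nil
  | [a], _ => List.pairwise_singleton _ a
  | a :: b :: l, h => by
    rw [incB, Bool.and_eq_true, Nat.blt_eq] at h
    have ih := incB_pairwise h.2
    refine List.pairwise_cons.2 ⟨fun c hc => ?_, ih⟩
    rcases List.mem_cons.1 hc with rfl | hc
    · exact h.1
    · exact h.1.trans ((List.pairwise_cons.1 ih).1 c hc)

namespace TransTable

variable {G : Type*} [Group G] [Finite G] {n : ℕ} (A : TransTable G n)

/-- The centraliser of the values of some words. -/
def cent (tws : List (List ℕ)) : Subgroup G :=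
  Subgroup.centralizer (wordVal A.x '' {w | w ∈ tws})

theorem mem_cent {tws : List (List ℕ)} {c : G} :
    c ∈ A.cent tws ↔ ∀ w ∈ tws, wordVal A.x w * c = c * wordVal A.x w := by
  rw [cent, Subgroup.mem_centralizer_iff]
  exact Set.forall_mem_image

/-- Candidates for the images of generators bound the centraliser. -/
def CentChain : List (List ℕ) → List (ℕ × List ℕ) → Prop
  | tws, [] => ∀ g < A.k, [g] ∈ tws
  | tws, (r, cand) :: l => (Nat.blt r A.k && tws.all fun w => w.all fun g => Nat.blt g A.k) = true ∧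
      scanOK A.Z A.k (centConds A.Z A.k A.pts tws r) (elemN cand) n 0 = true ∧
      CentChain ([r] :: tws) l

theorem card_cent_le (hc : Subgroup.center G = ⊥) : ∀ (l : List (ℕ × List ℕ)) (tws : List (List ℕ)),
    A.CentChain tws l → Nat.card (A.cent tws) ≤ (l.map fun e => e.2.length).prod
  | [], tws, h => by
    have : A.cent tws = ⊥ := by
      rw [eq_bot_iff, ← hc]
      intro c hcc
      refine A.mem_center_of_fix fun g hg => ?_
      rw [← A.commute_delta_iff, A.delta_pts hg, ← A.wordVal_singleton hg]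
      exact ((A.mem_cent.1 hcc) [g] (h g hg)).symm
    simp [this]
  | (r, cand) :: l, tws, ⟨hr, hscan, hrest⟩ => by
    rw [Bool.and_eq_true, Nat.blt_eq] at hr
    obtain ⟨hr, hw⟩ := hr
    simp only [List.all_eq_true, Nat.blt_eq] at hw
    set C := A.cent tws
    set p : Fin n := ⟨A.pts.getD r 0, A.pts_lt hr⟩
    have hmem : ∀ c : C, (A.f (c : G) p).1 ∈ cand := by
      intro c
      refine elemN_iff.1 (scanOK_get hscan _ (Nat.zero_le _) (by omega) ?_)
      rw [condsB_iff]
      intro e he
      obtain ⟨w, hwm, rfl⟩ := List.mem_map.1 he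
      have hcw := A.mem_cent.1 c.2 w hwm
      have h1 : ∀ q : Fin n, wordVal A.x w * A.delta q = A.delta q * wordVal A.x w ↔
          twalk A.Z A.k w q.1 = q.1 := fun q => by
        rw [A.commute_delta_iff, Fin.ext_iff, A.walk_apply (hw w hwm)]
      rw [Nat.beq_eq, ← h1, ← h1 p, A.delta_apply]
      constructor
      · intro h
        have h2 := congrArg (MulAut.conj (c : G)⁻¹) h
        rw [map_mul (MulAut.conj (c : G)⁻¹) (wordVal A.x w),
          map_mul (MulAut.conj (c : G)⁻¹) _ (wordVal A.x w)] at h2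
        have e1 : MulAut.conj (c : G)⁻¹ (wordVal A.x w) = wordVal A.x w := by
          rw [MulAut.conj_apply, inv_inv, mul_assoc, hcw, inv_mul_cancel_left]
        have e2 : MulAut.conj (c : G)⁻¹ ((c : G) * A.delta p * (c : G)⁻¹) = A.delta p := by
          rw [MulAut.conj_apply, inv_inv]; group
        rwa [e1, e2] at h2
      · intro h
        have h2 := congrArg (MulAut.conj (c : G)) h
        rw [map_mul, map_mul] at h2
        have e1 : MulAut.conj (c : G) (wordVal A.x w) = wordVal A.x w := by
          rw [MulAut.conj_apply, ← hcw, mul_inv_cancel_right]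
        rw [e1] at h2
        exact h2
    let orb : C → {i // i ∈ cand} := fun c => ⟨_, hmem c⟩
    have hfib : ∀ a b : C, orb a = orb b → (a : G)⁻¹ * b ∈ A.cent ([r] :: tws) := by
      intro a b hab
      refine A.mem_cent.2 fun w hwm => ?_
      rcases List.mem_cons.1 hwm with rfl | hwm
      · have h1 : A.f ((a : G)⁻¹ * b) p = p := by
          rw [map_mul, Equiv.Perm.mul_apply, map_inv, Equiv.Perm.inv_def, Equiv.symm_apply_eq]
          exact Fin.ext (congrArg Subtype.val hab).symm
        have h2 := (A.commute_delta_iff _ p).2 h1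
        rw [A.delta_pts hr] at h2
        rw [A.wordVal_singleton hr]
        exact h2.symm
      · exact (A.mem_cent.1 (mul_mem (inv_mem a.2) b.2) w hwm)
    classical
    have : Finite {i // i ∈ cand} := Finite.of_equiv _
      (Equiv.subtypeEquivRight fun i => List.mem_toFinset (a := i) (l := cand))
    let ι : C → {i // i ∈ cand} × A.cent ([r] :: tws) := fun c =>
      (orb c, ⟨((Function.invFun orb (orb c) : C) : G)⁻¹ * c,
        hfib _ _ (Function.invFun_eq ⟨c, rfl⟩)⟩)
    have hι : Function.Injective ι := by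
      intro a b hab
      have h1 : orb a = orb b := congrArg Prod.fst hab
      have h2 := congrArg (fun z : {i // i ∈ cand} × A.cent ([r] :: tws) => (z.2 : G)) hab
      simp only [ι, h1, mul_right_inj] at h2
      exact Subtype.ext h2
    calc Nat.card C ≤ Nat.card ({i // i ∈ cand} × A.cent ([r] :: tws)) :=
          Nat.card_le_card_of_injective ι hι
      _ = Nat.card {i // i ∈ cand} * Nat.card (A.cent ([r] :: tws)) := Nat.card_prod _ _
      _ ≤ cand.length * (l.map fun e => e.2.length).prod := by
          refine Nat.mul_le_mul ?_ (card_cent_le hc l _ hrest)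
          rw [← Nat.card_congr (Equiv.subtypeEquivRight fun i => List.mem_toFinset (a := i) (l := cand)),
            Nat.card_eq_fintype_card, Fintype.card_coe]
          exact List.toFinset_card_le _
      _ = _ := by simp

/-- An element centralising the frame is trivial, a transposition, or fails the product test. -/
theorem cent_frame_cases (hc : Subgroup.center G = ⊥) {fg : List ℕ} {aux : List (List ℕ)}
    (hframe : frameOK A.Z A.k A.pts fg aux = true) {l : List (ℕ × List ℕ)}
    (hl : A.CentChain (frameWords fg aux) l) {L : List Entry}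
    (hinc : incB (L.map Entry.code) = true) (hlen : L.length = (l.map fun e => e.2.length).prod)
    {ps : List ℕ} (hps : ∀ p ∈ ps, p < n)
    (hL : ∀ e ∈ L, entryOK A.Z A.k n (frameWords fg aux) ps e = true)
    {t : G} (ht : t ∈ A.cent (frameWords fg aux)) :
    t = 1 ∨ IsConj A.d t ∨
      ∃ a : G, (t * (a * t * a⁻¹)) ^ 2 ≠ 1 ∧ (t * (a * t * a⁻¹)) ^ 3 ≠ 1 := by
  simp only [frameOK, Bool.and_eq_true, List.all_eq_true, Nat.blt_eq, Nat.beq_eq, and_assoc] at hframe
  obtain ⟨hfg, haux, hk0, hcomm⟩ := hframe
  set tws := frameWords fg aux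
  have hw : ∀ w ∈ tws, ∀ g ∈ w, g < A.k := by
    intro w hwm
    rcases List.mem_append.1 hwm with h | h
    · obtain ⟨g, hg, rfl⟩ := List.mem_map.1 h
      simpa using hfg g hg
    · obtain ⟨u, hu, rfl⟩ := List.mem_map.1 h
      exact A.conjWord_lt hk0 (haux u hu)
  have hpt : ∀ w ∈ tws, ∃ p : Fin n, p.1 ∈ framePts A.Z A.k A.pts fg aux ∧
      A.delta p = wordVal A.x w := by
    intro w hwm
    rcases List.mem_append.1 hwm with h | h
    · obtain ⟨g, hg, rfl⟩ := List.mem_map.1 h
      exact ⟨⟨_, A.pts_lt (hfg g hg)⟩, List.mem_append_left _ (List.mem_map.2 ⟨g, hg, rfl⟩),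
        by rw [A.delta_pts (hfg g hg), A.wordVal_singleton (hfg g hg)]⟩
    · obtain ⟨u, hu, rfl⟩ := List.mem_map.1 h
      exact ⟨⟨_, A.twalk_lt (haux u hu) (A.pts_lt hk0)⟩,
        List.mem_append_right _ (List.mem_map.2 ⟨u, hu, rfl⟩), A.delta_conjWord hk0 (haux u hu)⟩
  have hin : ∀ w ∈ tws, wordVal A.x w ∈ A.cent tws := by
    intro w hwm
    refine A.mem_cent.2 fun v hv => ?_
    obtain ⟨p, hp, hpd⟩ := hpt w hwm
    rw [← hpd, A.commute_delta_iff, Fin.ext_iff, A.walk_apply (hw v hv)]
    exact hcomm v hv p.1 hp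
  have hprod : ∀ e ∈ L, (∀ g ∈ prodWord tws e.s, g < A.k) ∧
      wordVal A.x (prodWord tws e.s) ∈ A.cent tws := by
    intro e he
    have he' := hL e he
    simp only [entryOK, Bool.and_eq_true, List.all_eq_true, Nat.blt_eq, and_assoc] at he'
    have hall : ∀ j ∈ e.s, tws.getD j [] ∈ tws := fun j hj => by
      rw [List.getD_eq_getElem _ _ (he'.1 j hj)]
      exact List.getElem_mem _
    generalize e.s = s at hall
    induction s with
    | nil => exact ⟨by simp [prodWord], one_mem _⟩
    | cons j s ih =>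
      obtain ⟨h1, h2⟩ := ih fun i hi => hall i (by simp [hi])
      have hj := hall j (by simp)
      rw [show prodWord tws (j :: s) = tws.getD j [] ++ prodWord tws s from rfl]
      refine ⟨fun g hg => ?_, ?_⟩
      · rcases List.mem_append.1 hg with hg | hg
        exacts [hw _ hj g hg, h1 g hg]
      · rw [wordVal_append]
        exact mul_mem h2 (hin _ hj)
  let val : Fin L.length → A.cent tws := fun i =>
    ⟨_, (hprod L[i.1] (List.getElem_mem i.2)).2⟩
  have hval : Function.Injective val := by
    intro i j hij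
    have heq : wordVal A.x (prodWord tws L[i.1].s) = wordVal A.x (prodWord tws L[j.1].s) :=
      congrArg Subtype.val hij
    have hcode : L[i.1].code = L[j.1].code := by
      have hi := hL L[i.1] (List.getElem_mem i.2)
      have hj := hL L[j.1] (List.getElem_mem j.2)
      simp only [entryOK, Bool.and_eq_true, Nat.beq_eq, and_assoc] at hi hj
      rw [← hi.2.1, ← hj.2.1]
      have : ∀ (qs : List ℕ), (∀ p ∈ qs, p < n) →
          codeOf A.Z A.k n (prodWord tws L[i.1].s) qs = codeOf A.Z A.k n (prodWord tws L[j.1].s) qs := by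
        intro qs
        induction qs with
        | nil => intro _; rfl
        | cons p qs ih =>
          intro h
          have hp : p < n := h p (by simp)
          rw [codeOf, codeOf, ih fun a ha => h a (by simp [ha]),
            ← A.walk_apply (hprod L[i.1] (List.getElem_mem i.2)).1 ⟨p, hp⟩,
            ← A.walk_apply (hprod L[j.1] (List.getElem_mem j.2)).1 ⟨p, hp⟩, heq]
      exact this ps hps
    have hnd : (L.map Entry.code).Nodup := (incB_pairwise hinc).imp fun h => Nat.ne_of_lt h
    exact Fin.ext ((hnd.getElem_inj_iff (hi := by simp) (hj := by simp)).1 (by simpa using hcode))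
  have hbij := hval.bijective_of_nat_card_le
    (by rw [Nat.card_fin, hlen]; exact A.card_cent_le hc l tws hl)
  obtain ⟨i, hi⟩ := hbij.2 ⟨t, ht⟩
  have hti : wordVal A.x (prodWord tws L[i.1].s) = t := congrArg Subtype.val hi
  have he := hL L[i.1] (List.getElem_mem i.2)
  have hpw := (hprod L[i.1] (List.getElem_mem i.2)).1
  generalize L[i.1] = e at hti he hpw
  simp only [entryOK, Bool.and_eq_true, Bool.or_eq_true, List.all_eq_true, Nat.blt_eq, Nat.ble_eq,
    Bool.not_eq_true', and_assoc] at he
  obtain ⟨hs, -, he⟩ := he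
  rcases he with he | ⟨hg, h2, h3, hn2, hn3⟩
  · match hs' : e.s, he with
    | [], _ => exact Or.inl (by rw [← hti, hs']; rfl)
    | [j], _ =>
      right; left
      have hj : tws.getD j [] ∈ tws := by
        rw [List.getD_eq_getElem _ _ (hs j (by simp [hs']))]
        exact List.getElem_mem _
      obtain ⟨p, -, hp⟩ := hpt _ hj
      rw [A.isConj_iff_exists]
      exact ⟨p, by rw [hp, ← hti, hs']; simp [prodWord]⟩
    | _ :: _ :: _, h => simp at h
  · right; right
    refine ⟨wordVal A.x e.a, ?_, ?_⟩ <;>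
    · intro h
      have hval' : ∀ m, wordVal A.x (pairWord (prodWord tws e.s) e.a m) =
          (t * (wordVal A.x e.a * t * (wordVal A.x e.a)⁻¹)) ^ m := by
        intro m
        rw [pairWord, wordVal_replicate', wordVal_append, wordVal_append, wordVal_append,
          wordVal_reverse A.sq, hti]
        simp [mul_assoc]
      have hlt : ∀ m, ∀ g ∈ pairWord (prodWord tws e.s) e.a m, g < A.k := by
        intro m g hg'
        simp only [pairWord, List.mem_flatten, List.mem_replicate] at hg'
        obtain ⟨u, ⟨-, rfl⟩, hg'⟩ := hg'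
        simp only [List.mem_append, List.mem_reverse] at hg'
        rcases hg' with ((h' | h') | h') | h'
        exacts [hg g h', hpw g h', hg g h', hpw g h']
      first
      | (have := A.walk_apply (hlt 2) ⟨e.p₂, h2⟩
         rw [hval', h, map_one] at this
         simp [← this] at hn2)
      | (have := A.walk_apply (hlt 3) ⟨e.p₃, h3⟩
         rw [hval', h, map_one] at this
         simp [← this] at hn3)

/-- Automorphisms preserve the transpositions, for a class of odd size. -/
theorem exists_delta_map (hodd : Odd (Subgroup.centralizer ({A.d} : Set G)).index) (hd1 : A.d ≠ 1)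
    (hD : Cfsg.IsThreeTranspositionClass (conjugatesOf A.d)) {fg : List ℕ} {aux : List (List ℕ)}
    (hframe : frameOK A.Z A.k A.pts fg aux = true)
    (hcases : ∀ t ∈ A.cent (frameWords fg aux), t = 1 ∨ IsConj A.d t ∨
      ∃ a : G, (t * (a * t * a⁻¹)) ^ 2 ≠ 1 ∧ (t * (a * t * a⁻¹)) ^ 3 ≠ 1)
    (φ : G ≃* G) (p : Fin n) : ∃ q, A.delta q = φ (A.delta p) := by
  set tws := frameWords fg aux
  set t := φ A.d
  -- the frame generates a 2-group
  simp only [frameOK, Bool.and_eq_true, List.all_eq_true, Nat.blt_eq, Nat.beq_eq, and_assoc] at hframe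
  obtain ⟨hfg, haux, hk0, hcomm⟩ := hframe
  set S := Subgroup.closure (wordVal A.x '' {w | w ∈ tws})
  have hw : ∀ w ∈ tws, (∀ g ∈ w, g < A.k) ∧ wordVal A.x w * wordVal A.x w = 1 ∧
      ∃ q : Fin n, q.1 ∈ framePts A.Z A.k A.pts fg aux ∧ A.delta q = wordVal A.x w := by
    intro w hwm
    have hdel : ∀ q, A.delta q * A.delta q = 1 := by
      intro q
      have h2 := hD.1.1 (A.delta q) ((A.isConj_iff_exists _).2 ⟨q, rfl⟩)
      rw [← pow_two, ← h2, pow_orderOf_eq_one]
    rcases List.mem_append.1 hwm with h | h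
    · obtain ⟨g, hg, rfl⟩ := List.mem_map.1 h
      exact ⟨by simpa using hfg g hg, by rw [A.wordVal_singleton (hfg g hg), A.sq],
        ⟨_, A.pts_lt (hfg g hg)⟩, List.mem_append_left _ (List.mem_map.2 ⟨g, hg, rfl⟩),
        by rw [A.delta_pts (hfg g hg), A.wordVal_singleton (hfg g hg)]⟩
    · obtain ⟨u, hu, rfl⟩ := List.mem_map.1 h
      exact ⟨A.conjWord_lt hk0 (haux u hu), by rw [← A.delta_conjWord hk0 (haux u hu), hdel],
        ⟨_, A.twalk_lt (haux u hu) (A.pts_lt hk0)⟩,
        List.mem_append_right _ (List.mem_map.2 ⟨u, hu, rfl⟩), A.delta_conjWord hk0 (haux u hu)⟩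
  have hle : S ≤ A.cent tws := by
    rw [Subgroup.closure_le]
    rintro _ ⟨w, hwm, rfl⟩
    refine A.mem_cent.2 fun v hv => ?_
    obtain ⟨q, hq, hqd⟩ := (hw w hwm).2.2
    rw [← hqd, A.commute_delta_iff, Fin.ext_iff, A.walk_apply (hw v hv).1]
    exact hcomm v hv q.1 hq
  have hcs : A.cent tws = Subgroup.centralizer (S : Set G) := (Subgroup.centralizer_closure _).symm
  have hsq : ∀ s ∈ S, s * s = 1 := by
    intro s hs
    induction hs using Subgroup.closure_induction with
    | mem y hy => obtain ⟨w, hwm, rfl⟩ := hy; exact (hw w hwm).2.1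
    | one => exact one_mul 1
    | mul y z hy hz iy iz =>
      have hyz : z * y = y * z := by
        have h1 := hle hy
        rw [hcs, Subgroup.mem_centralizer_iff] at h1
        exact h1 z hz
      calc y * z * (y * z) = y * (z * y) * z := by group
        _ = y * y * (z * z) := by rw [hyz]; group
        _ = 1 := by rw [iy, iz, one_mul]
    | inv y _ iy => rw [← mul_inv_rev, iy, inv_one]
  have hS : IsPGroup 2 S := fun s => ⟨1, Subtype.ext (by simpa [pow_two] using hsq s.1 s.2)⟩
  -- a conjugate of the image centralises it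
  have : Fact (Nat.Prime 2) := ⟨Nat.prime_two⟩
  set Ct := Subgroup.centralizer ({t} : Set G) with hCt
  have hidx : Ct.index = (Subgroup.centralizer ({A.d} : Set G)).index := by
    have : (Subgroup.centralizer ({A.d} : Set G)).map φ.toMonoidHom = Ct := by
      ext z
      rw [Subgroup.mem_map_equiv, Subgroup.mem_centralizer_singleton_iff,
        Subgroup.mem_centralizer_singleton_iff, ← φ.injective.eq_iff, map_mul, map_mul,
        MulEquiv.apply_symm_apply]
    rw [← this]
    exact (Subgroup.index_map_equiv _ φ)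
  let P₀ : Sylow 2 Ct := default
  have hcard : Nat.card ((P₀ : Subgroup Ct).map Ct.subtype) =
      2 ^ (Nat.card G).factorization 2 := by
    rw [Subgroup.card_map_of_injective Ct.subtype_injective, P₀.card_eq_multiplicity]
    congr 1
    rw [← Ct.card_mul_index, Nat.factorization_mul Nat.card_pos.ne' Subgroup.index_ne_zero_of_finite,
      Finsupp.add_apply]
    rw [hidx, Nat.factorization_eq_zero_of_not_dvd hodd.not_two_dvd_nat, add_zero]
  let Q : Sylow 2 G := Sylow.ofCard _ hcard
  obtain ⟨P, hP⟩ := hS.exists_le_sylow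
  obtain ⟨g, hg⟩ := MulAction.exists_smul_eq G P Q
  have ht' : g⁻¹ * t * g ∈ A.cent tws := by
    rw [hcs, Subgroup.mem_centralizer_iff]
    intro s hs
    have h1 : g * s * g⁻¹ ∈ (Q : Subgroup G) := by
      rw [← hg]
      exact ⟨s, hP hs, rfl⟩
    have h2 : g * s * g⁻¹ ∈ (P₀ : Subgroup Ct).map Ct.subtype := h1
    obtain ⟨c, -, hc⟩ := h2
    have h3 : g * s * g⁻¹ * t = t * (g * s * g⁻¹) := by
      rw [← hc]
      exact Subgroup.mem_centralizer_singleton_iff.1 c.2
    calc s * (g⁻¹ * t * g) = g⁻¹ * (g * s * g⁻¹ * t) * g := by group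
      _ = g⁻¹ * (t * (g * s * g⁻¹)) * g := by rw [h3]
      _ = g⁻¹ * t * g * s := by group
  obtain ⟨p', rfl⟩ := A.trans p
  rw [A.delta_move, ← A.isConj_iff_exists]
  have hto : IsConj (g⁻¹ * t * g) (φ (p' * A.d * p'⁻¹)) :=
    isConj_iff.2 ⟨φ p' * g, by simp only [map_mul, map_inv, t]; group⟩
  rcases hcases _ ht' with h | h | ⟨a, h2, h3⟩
  · exfalso
    apply hd1
    have : t = 1 := by
      calc t = g * (g⁻¹ * t * g) * g⁻¹ := by group
        _ = 1 := by rw [h]; group
    exact φ.injective (this.trans φ.map_one.symm)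
  · exact h.trans hto
  · exfalso
    have hmem : ∀ b : G, ∃ e ∈ conjugatesOf A.d, φ e = b * t * b⁻¹ := fun b =>
      ⟨φ.symm b * A.d * (φ.symm b)⁻¹, isConj_iff.2 ⟨_, rfl⟩, by simp [t]⟩
    obtain ⟨e₁, he1, he1'⟩ := hmem g⁻¹
    obtain ⟨e₂, he2, he2'⟩ := hmem (a * g⁻¹)
    have h := hD.1.2 e₁ he1 e₂ he2
    have hh : φ (e₁ * e₂) = g⁻¹ * t * g * (a * (g⁻¹ * t * g) * a⁻¹) := by
      rw [map_mul, he1', he2']; group
    rcases h with h | h
    · exact h2 (by rw [← hh, ← map_pow, h, map_one])
    · exact h3 (by rw [← hh, ← map_pow, h, map_one])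

end TransTable

end Cfsg.Lib.CosetEnum
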