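import Cfsg.Agent.Lib.CosetEnum.Defs

/-!
# Checks on configurations of transpositions in a coset table
-/

set_option autoImplicit false

namespace Cfsg.Lib.CosetEnum

/-- Membership in a list of numbers. -/
def elemN : List Nat → Nat → Bool
  | [], _ => false
  | a :: l, r => Nat.beq a r || elemN l r

/-- A point is fixed or moved by a word, as asked. -/
noncomputable def condB (Z : Tab) (k : Nat) (c : List Nat × Bool) (r : Nat) : Bool :=
  cond (Nat.beq (twalk Z k c.1 r) r) c.2 (!c.2)

/-- All conditions hold at a point. -/
noncomputable def condsB (Z : Tab) (k : Nat) : List (List Nat × Bool) → Nat → Bool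
  | [], _ => true
  | c :: l, r => cond (condB Z k c r) (condsB Z k l r) false

/-- Every point of a range meeting the conditions is in the set. -/
noncomputable def scanOK (Z : Tab) (k : Nat) (conds : List (List Nat × Bool)) (mem : Nat → Bool) :
    Nat → Nat → Bool
  | 0, _ => true
  | m + 1, i => force i fun i =>
      cond (condsB Z k conds i) (mem i) true && scanOK Z k conds mem m (i + 1)

theorem scanOK_append {Z : Tab} {k : Nat} {conds : List (List Nat × Bool)} {mem : Nat → Bool} :
    ∀ {a b i : Nat}, scanOK Z k conds mem a i = true → scanOK Z k conds mem b (i + a) = true →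
      scanOK Z k conds mem (a + b) i = true
  | 0, b, i, _, h => by simpa using h
  | a + 1, b, i, h, h' => by
    rw [scanOK, force_eq, Bool.and_eq_true] at h
    rw [show a + 1 + b = (a + b) + 1 by omega, scanOK, force_eq, Bool.and_eq_true]
    exact ⟨h.1, scanOK_append h.2 (by rwa [show i + 1 + a = i + (a + 1) by omega])⟩

/-- The recursion of the orbit check, stated here without its equation lemmas. -/
theorem orbitOK_step (Z O Pos : Tab) (k n c : Nat) (U : List (List Nat)) (m j : Nat) :
    orbitOK Z O Pos k n c U (m + 1) j = force j fun j =>
      Nat.blt (O.getP j / B / B) n && Nat.beq (Pos.getP (O.getP j / B / B)) j &&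
      (Nat.beq j 0 || (Nat.blt (O.getP j / B % B) j &&
        Nat.beq (twalk Z k (U.getD (O.getP j % B) []) (O.getP (O.getP j / B % B) / B / B))
          (O.getP j / B / B))) &&
      (U.all fun u => (u.all fun g => Nat.blt g k) &&
        force (twalk Z k u (O.getP j / B / B)) fun t => member O Pos c t) &&
      orbitOK Z O Pos k n c U m (j + 1) := rfl

theorem orbitOK_append {Z O Pos : Tab} {k n c : Nat} {U : List (List Nat)} : ∀ {a b i : Nat},
    orbitOK Z O Pos k n c U a i = true → orbitOK Z O Pos k n c U b (i + a) = true →
      orbitOK Z O Pos k n c U (a + b) i = true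
  | 0, b, i, _, h => by simpa using h
  | a + 1, b, i, h, h' => by
    rw [orbitOK_step, force_eq, Bool.and_eq_true] at h
    rw [show a + 1 + b = (a + b) + 1 by omega, orbitOK_step, force_eq, Bool.and_eq_true]
    exact ⟨h.1, orbitOK_append h.2 (by rwa [show i + 1 + a = i + (a + 1) by omega])⟩

/-- An allowed image of a role: an orbit of the fixer of the earlier images through a listed point. -/
structure Rep where
  /-- The place of the point in the list. -/
  g : Nat
  /-- Words fixing the earlier images. -/
  U : List (List Nat)
  /-- The orbit. -/
  O : Tab
  /-- Positions in the orbit. -/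
  Pos : Tab
  /-- The orbit length. -/
  c : Nat

/-- Membership in one of the orbits. -/
noncomputable def memReps : List Rep → Nat → Bool
  | [], _ => false
  | R :: l, r => member R.O R.Pos R.c r || memReps l r

/-- The conditions on the image of role `r` after the roles in `prev`. -/
noncomputable def roleConds (Z : Tab) (k : Nat) (pts : List Nat) (prev : List (Nat × Nat)) (r : Nat) :
    List (List Nat × Bool) :=
  prev.map fun hg => ([hg.2], Nat.beq (img Z k hg.1 (pts.getD r 0)) (pts.getD r 0))

/-- The images that role `r` cannot take, and those listed. -/
noncomputable def roleMem (pts : List Nat) (prev : List (Nat × Nat)) (reps : List Rep) (i : Nat) :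
    Bool :=
  elemN (prev.map fun hg => pts.getD hg.2 0) i || memReps reps i

/-- The checks on a role besides the scan and the orbits. -/
noncomputable def repsOK (Z : Tab) (k : Nat) (pts : List Nat) (prev : List (Nat × Nat)) (r : Nat)
    (reps : List Rep) : Bool :=
  Nat.blt r k && (prev.all fun hg => Nat.blt hg.1 k && Nat.blt hg.2 k &&
    !(Nat.beq (pts.getD hg.1 0) (pts.getD r 0))) &&
  reps.all fun R => Nat.blt 0 R.c && Nat.beq (R.O.getP 0 / B / B) (pts.getD R.g 0) &&
    R.U.all fun u => prev.all fun hg => Nat.beq (twalk Z k u (pts.getD hg.2 0)) (pts.getD hg.2 0)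

/-- The word of a transposition from a word moving the first one to it. -/
def conjWord (w : List Nat) : List Nat := w.reverse ++ [0] ++ w

/-- The word of a product of listed transpositions. -/
def prodWord (ws : List (List Nat)) (s : List Nat) : List Nat :=
  s.flatMap fun j => ws.getD j []

/-- The words of a set of transpositions given by generators and by moving words. -/
def frameWords (fg : List Nat) (aux : List (List Nat)) : List (List Nat) :=
  fg.map (fun g => [g]) ++ aux.map conjWord

/-- The points of such a set. -/
noncomputable def framePts (Z : Tab) (k : Nat) (pts : List Nat) (fg : List Nat) (aux : List (List Nat)) :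
    List Nat :=
  fg.map (fun g => pts.getD g 0) ++ aux.map fun w => twalk Z k w (pts.getD 0 0)

/-- Letters in range and all transpositions commuting. -/
noncomputable def frameOK (Z : Tab) (k : Nat) (pts : List Nat) (fg : List Nat) (aux : List (List Nat)) :
    Bool :=
  (fg.all fun g => Nat.blt g k) && (aux.all fun w => w.all fun g => Nat.blt g k) && Nat.blt 0 k &&
    (frameWords fg aux).all fun w => (framePts Z k pts fg aux).all fun p => Nat.beq (twalk Z k w p) p

/-- The conditions on the image of a generator under an element centralising some transpositions. -/
noncomputable def centConds (Z : Tab) (k : Nat) (pts : List Nat) (tws : List (List Nat)) (r : Nat) :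
    List (List Nat × Bool) :=
  tws.map fun w => (w, Nat.beq (twalk Z k w (pts.getD r 0)) (pts.getD r 0))

/-- The images of some points under a word, packed into a number. -/
noncomputable def codeOf (Z : Tab) (k n : Nat) (w : List Nat) : List Nat → Nat
  | [] => 0
  | p :: ps => twalk Z k w p + n * codeOf Z k n w ps

/-- A strictly increasing list. -/
def incB : List Nat → Bool
  | [] => true
  | [_] => true
  | a :: b :: l => Nat.blt a b && incB (b :: l)

/-- An entry of a list of products: the factors, the code, and the witness (word, two moved points). -/
structure Entry where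
  /-- The factors. -/
  s : List Nat
  /-- The code of the images. -/
  code : Nat
  /-- A conjugating word. -/
  a : List Nat
  /-- A point moved by the square. -/
  p₂ : Nat
  /-- A point moved by the cube. -/
  p₃ : Nat

/-- The word of the product of a conjugate pair, repeated. -/
def pairWord (w a : List Nat) (m : Nat) : List Nat :=
  (List.replicate m (a.reverse ++ w ++ a ++ w)).flatten

/-- Check an entry: products of one or no factor are not tested further. -/
noncomputable def entryOK (Z : Tab) (k n : Nat) (ws : List (List Nat)) (ps : List Nat) (e : Entry) :
    Bool :=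
  (e.s.all fun j => Nat.blt j ws.length) && Nat.beq (codeOf Z k n (prodWord ws e.s) ps) e.code &&
    (Nat.ble e.s.length 1 || ((e.a.all fun g => Nat.blt g k) && Nat.blt e.p₂ n && Nat.blt e.p₃ n &&
      !(Nat.beq (twalk Z k (pairWord (prodWord ws e.s) e.a 2) e.p₂) e.p₂) &&
      !(Nat.beq (twalk Z k (pairWord (prodWord ws e.s) e.a 3) e.p₃) e.p₃)))

end Cfsg.Lib.CosetEnum
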