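import Cfsg.Agent.Lib.CosetEnum.Simple
import Cfsg.Agent.Lib.CosetEnum.Trans.Defs

/-!
# Transpositions as points of a coset table
-/

set_option autoImplicit false

namespace Cfsg.Lib.CosetEnum

theorem elemN_iff {l : List ℕ} {r : ℕ} : elemN l r = true ↔ r ∈ l := by
  induction l with
  | nil => simp [elemN]
  | cons a l ih =>
    rw [elemN, Bool.or_eq_true, ih, Nat.beq_eq, List.mem_cons]
    exact or_congr_left eq_comm

theorem condsB_iff {Z : Tab} {k : ℕ} {l : List (List ℕ × Bool)} {r : ℕ} :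
    condsB Z k l r = true ↔ ∀ c ∈ l, (twalk Z k c.1 r = r ↔ c.2 = true) := by
  induction l with
  | nil => simp [condsB]
  | cons c l ih =>
    rw [condsB, List.forall_mem_cons, ← ih]
    have hc : condB Z k c r = true ↔ (twalk Z k c.1 r = r ↔ c.2 = true) := by
      unfold condB
      cases h : Nat.beq (twalk Z k c.1 r) r
      · have : ¬ twalk Z k c.1 r = r := fun he => by simp [he] at h
        cases hb : c.2 <;> simp [this]
      · have := Nat.eq_of_beq_eq_true h
        cases hb : c.2 <;> simp [this]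
    cases h : condB Z k c r
    · simp only [cond_false, Bool.false_eq_true, false_iff]
      intro h'
      rw [hc.2 h'.1] at h
      simp at h
    · simp only [cond_true]
      exact ⟨fun h' => ⟨hc.1 h, h'⟩, And.right⟩

theorem scanOK_get {Z : Tab} {k : ℕ} {conds : List (List ℕ × Bool)} {mem : ℕ → Bool} : ∀ {m i : ℕ},
    scanOK Z k conds mem m i = true → ∀ j, i ≤ j → j < i + m → condsB Z k conds j = true →
      mem j = true
  | 0, i, _, j, h1, h2, _ => by omega
  | m + 1, i, hc, j, h1, h2, hj => by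
    rw [scanOK, force_eq, Bool.and_eq_true] at hc
    rcases Nat.eq_or_lt_of_le h1 with h | h
    · subst h
      rw [hj, cond_true] at hc
      exact hc.1
    · exact scanOK_get hc.2 j h (by omega) hj

theorem memReps_iff {l : List Rep} {r : ℕ} :
    memReps l r = true ↔ ∃ R ∈ l, member R.O R.Pos R.c r = true := by
  induction l with
  | nil => simp [memReps]
  | cons a l ih => simp [memReps, ih]

/-- A group acting faithfully on points that label a class of transpositions. -/
structure TransAct (G : Type*) [Group G] (n : ℕ) where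
  /-- The action. -/
  f : G →* Equiv.Perm (Fin n)
  inj : Function.Injective f
  /-- A transposition. -/
  d : G
  /-- Its point. -/
  p₀ : Fin n
  trans : ∀ p, ∃ g, f g p₀ = p
  stab : ∀ g, f g p₀ = p₀ ↔ g * d = d * g

namespace TransAct

variable {G : Type*} [Group G] {n : ℕ} (A : TransAct G n)

/-- An element moving the first point to a given one. -/
noncomputable def mover (p : Fin n) : G := (A.trans p).choose

theorem mover_spec (p : Fin n) : A.f (A.mover p) A.p₀ = p := (A.trans p).choose_spec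

/-- The transposition of a point. -/
noncomputable def delta (p : Fin n) : G := A.mover p * A.d * (A.mover p)⁻¹

theorem delta_move (g : G) : A.delta (A.f g A.p₀) = g * A.d * g⁻¹ := by
  have h : ((A.mover (A.f g A.p₀))⁻¹ * g) * A.d = A.d * ((A.mover (A.f g A.p₀))⁻¹ * g) := by
    rw [← A.stab, map_mul, Equiv.Perm.mul_apply, map_inv, Equiv.Perm.inv_def, Equiv.symm_apply_eq]
    exact (A.mover_spec _).symm
  unfold delta
  set c := A.mover (A.f g A.p₀)
  calc c * A.d * c⁻¹ = c * (A.d * (c⁻¹ * g)) * g⁻¹ := by group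
    _ = c * (c⁻¹ * g * A.d) * g⁻¹ := by rw [h]
    _ = g * A.d * g⁻¹ := by group

theorem delta_p₀ : A.delta A.p₀ = A.d := by simpa using A.delta_move 1

theorem delta_apply (g : G) (p : Fin n) : A.delta (A.f g p) = g * A.delta p * g⁻¹ := by
  obtain ⟨c, rfl⟩ := A.trans p
  rw [← Equiv.Perm.mul_apply, ← map_mul, A.delta_move, A.delta_move]
  group

theorem delta_injective : Function.Injective A.delta := by
  intro p q h
  obtain ⟨a, rfl⟩ := A.trans p
  obtain ⟨b, rfl⟩ := A.trans q
  rw [A.delta_move, A.delta_move] at h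
  have : (b⁻¹ * a) * A.d = A.d * (b⁻¹ * a) := by
    calc b⁻¹ * a * A.d = b⁻¹ * (a * A.d * a⁻¹) * a := by group
      _ = b⁻¹ * (b * A.d * b⁻¹) * a := by rw [h]
      _ = A.d * (b⁻¹ * a) := by group
  rw [← A.stab, map_mul, Equiv.Perm.mul_apply, map_inv, Equiv.Perm.inv_def,
    Equiv.symm_apply_eq] at this
  exact this

theorem commute_delta_iff (g : G) (p : Fin n) :
    g * A.delta p = A.delta p * g ↔ A.f g p = p := by
  constructor
  · intro h
    apply A.delta_injective
    rw [A.delta_apply, h, mul_inv_cancel_right]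
  · intro h
    have := A.delta_apply g p
    rw [h] at this
    exact (mul_inv_eq_iff_eq_mul.1 this.symm)

theorem isConj_iff_exists (e : G) : IsConj A.d e ↔ ∃ p, A.delta p = e := by
  rw [isConj_iff]
  constructor
  · rintro ⟨g, rfl⟩
    exact ⟨_, A.delta_move g⟩
  · rintro ⟨p, rfl⟩
    exact ⟨_, rfl⟩

end TransAct

/-- A table for such an action, with the generators among the transpositions. -/
structure TransTable (G : Type*) [Group G] (n : ℕ) extends TransAct G n where
  /-- The generators. -/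
  x : ℕ → G
  /-- The table. -/
  Z : Tab
  /-- The number of generators. -/
  k : ℕ
  /-- Relation words checked with the table. -/
  R : List (List ℕ)
  perm : permOK Z k n R n 0 = true
  k_le : k ≤ eps
  f_gen : ∀ g < k, f (x g) = tperm Z k n g
  gen : Subgroup.closure (x '' {g | g < k}) = ⊤
  sq : ∀ g, x g * x g = 1
  /-- The points of the generators. -/
  pts : List ℕ
  pts_spec : ∀ g < k, ∃ h : pts.getD g 0 < n, toTransAct.delta ⟨pts.getD g 0, h⟩ = x g

namespace TransTable

variable {G : Type*} [Group G] {n : ℕ} (A : TransTable G n)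

theorem pts_lt {g : ℕ} (hg : g < A.k) : A.pts.getD g 0 < n := (A.pts_spec g hg).1

theorem walk_apply {w : List ℕ} (hw : ∀ g ∈ w, g < A.k) (i : Fin n) :
    (A.f (wordVal A.x w) i).1 = twalk A.Z A.k w i.1 := by
  rw [map_wordVal_tperm A.x A.f A.k_le A.f_gen hw]
  exact wordVal_tperm A.perm A.k_le w hw i

theorem img_apply {g : ℕ} (hg : g < A.k) (i : Fin n) : (A.f (A.x g) i).1 = img A.Z A.k g i.1 := by
  rw [A.f_gen g hg]
  exact tperm_apply A.perm hg i

theorem img_lt {g : ℕ} (hg : g < A.k) {i : ℕ} (hi : i < n) : img A.Z A.k g i < n := by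
  rw [← A.img_apply hg ⟨i, hi⟩]
  exact Fin.is_lt _

theorem delta_pts {g : ℕ} (hg : g < A.k) :
    A.delta ⟨A.pts.getD g 0, A.pts_lt hg⟩ = A.x g := (A.pts_spec g hg).2

theorem wordVal_singleton {g : ℕ} (hg : g < A.k) : wordVal A.x [g] = A.x g := by
  have : g ≠ eps := Nat.ne_of_lt (lt_of_lt_of_le hg A.k_le)
  simp [wordVal, CosetEnum.gen, this]

theorem commute_gen_iff {g : ℕ} (hg : g < A.k) (q : Fin n) :
    A.x g * A.delta q = A.delta q * A.x g ↔ twalk A.Z A.k [g] q.1 = q.1 := by
  rw [A.commute_delta_iff, twalk_cons, twalk_nil, ← A.img_apply hg, Fin.ext_iff]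

theorem twalk_lt {w : List ℕ} (hw : ∀ g ∈ w, g < A.k) {i : ℕ} (hi : i < n) :
    twalk A.Z A.k w i < n := by
  rw [← A.walk_apply hw ⟨i, hi⟩]
  exact Fin.is_lt _

/-- The transposition of a point reached by a word from the point of the first generator. -/
theorem delta_conjWord (h0 : 0 < A.k) {w : List ℕ} (hw : ∀ g ∈ w, g < A.k) :
    A.delta ⟨twalk A.Z A.k w (A.pts.getD 0 0), A.twalk_lt hw (A.pts_lt h0)⟩ =
      wordVal A.x (conjWord w) := by
  rw [conjWord, wordVal_append, wordVal_append, wordVal_reverse A.sq, A.wordVal_singleton h0,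
    ← A.delta_pts h0, ← mul_assoc, ← A.delta_apply]
  congr 1
  apply Fin.ext
  rw [A.walk_apply hw]

theorem conjWord_lt (h0 : 0 < A.k) {w : List ℕ} (hw : ∀ g ∈ w, g < A.k) :
    ∀ g ∈ conjWord w, g < A.k := by
  intro g hg
  simp only [conjWord, List.mem_append, List.mem_reverse, List.mem_singleton] at hg
  rcases hg with (hg | rfl) | hg
  exacts [hw g hg, h0, hw g hg]

/-- An element fixing the points of all generators is central. -/
theorem mem_center_of_fix {c : G}
    (hc : ∀ g (hg : g < A.k), A.f c ⟨A.pts.getD g 0, A.pts_lt hg⟩ = ⟨A.pts.getD g 0, A.pts_lt hg⟩) :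
    c ∈ Subgroup.center G := by
  rw [Subgroup.mem_center_iff]
  intro a
  have ha : a ∈ Subgroup.centralizer ({c} : Set G) := by
    have : (⊤ : Subgroup G) ≤ Subgroup.centralizer ({c} : Set G) := by
      rw [← A.gen, Subgroup.closure_le]
      rintro _ ⟨g, hg, rfl⟩
      rw [SetLike.mem_coe, Subgroup.mem_centralizer_singleton_iff]
      have := (A.commute_delta_iff c _).2 (hc g hg)
      rw [A.delta_pts hg] at this
      exact this.symm
    exact this (Subgroup.mem_top a)
  exact Subgroup.mem_centralizer_singleton_iff.1 ha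

/-- The roles in `prev` are sent to the listed generators, up to an inner automorphism. -/
def State (τ : ℕ → Fin n) (prev : List (ℕ × ℕ)) : Prop :=
  ∃ a : G, ∀ hg ∈ prev, (A.f a (τ hg.1)).1 = A.pts.getD hg.2 0

theorem state_nil (τ : ℕ → Fin n) : A.State τ [] := ⟨1, by simp⟩

theorem state_first (τ : ℕ → Fin n) {r g : ℕ} (hg : g < A.k) : A.State τ [(r, g)] := by
  obtain ⟨a, ha⟩ := A.trans (τ r)
  obtain ⟨b, hb⟩ := A.trans ⟨A.pts.getD g 0, A.pts_lt hg⟩
  refine ⟨b * a⁻¹, fun e he => ?_⟩
  rw [List.mem_singleton] at he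
  subst he
  rw [map_mul, Equiv.Perm.mul_apply, map_inv, Equiv.Perm.inv_def,
    show (A.f a).symm (τ r) = A.p₀ from (Equiv.symm_apply_eq _).2 ha.symm, hb]

/-- The scanned conditions hold for the moved image of a role. -/
theorem roleConds_hold (φ : G ≃* G) {τ : ℕ → Fin n} (hτ : ∀ r < A.k, A.delta (τ r) = φ (A.x r))
    {prev : List (ℕ × ℕ)} {r : ℕ} (hr : r < A.k)
    (hprev : ∀ hg ∈ prev, hg.1 < A.k ∧ hg.2 < A.k) {a : G}
    (ha : ∀ hg ∈ prev, (A.f a (τ hg.1)).1 = A.pts.getD hg.2 0) :
    condsB A.Z A.k (roleConds A.Z A.k A.pts prev r) (A.f a (τ r)).1 = true := by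
  rw [condsB_iff]
  intro c hc
  simp only [roleConds, List.mem_map] at hc
  obtain ⟨hg, hmem, rfl⟩ := hc
  obtain ⟨h1, h2⟩ := hprev hg hmem
  have hq : A.delta (A.f a (τ r)) = MulAut.conj a (φ (A.x r)) := by
    rw [A.delta_apply, hτ r hr]; rfl
  have hh : A.x hg.2 = MulAut.conj a (φ (A.x hg.1)) := by
    rw [← A.delta_pts h2, show (⟨A.pts.getD hg.2 0, A.pts_lt h2⟩ : Fin n) = A.f a (τ hg.1) from
      Fin.ext (ha hg hmem).symm, A.delta_apply, hτ _ h1]
    rfl
  have h3 := A.commute_gen_iff h2 (A.f a (τ r))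
  have h4 : ∀ u v : G, MulAut.conj a (φ u) * MulAut.conj a (φ v) =
      MulAut.conj a (φ v) * MulAut.conj a (φ u) ↔ u * v = v * u := fun u v => by
    rw [← map_mul, ← map_mul, ← map_mul, ← map_mul, (MulAut.conj a).injective.eq_iff, φ.injective.eq_iff]
  rw [← h3, hq, hh, h4, ← A.delta_pts hr, A.commute_gen_iff h1, twalk_cons, twalk_nil, Nat.beq_eq]

/-- Normalising the image of one more role. -/
theorem state_step (φ : G ≃* G) {τ : ℕ → Fin n} (hτ : ∀ r < A.k, A.delta (τ r) = φ (A.x r))
    {prev : List (ℕ × ℕ)} {r : ℕ} {reps : List Rep}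
    (hok : repsOK A.Z A.k A.pts prev r reps = true)
    (hscan : scanOK A.Z A.k (roleConds A.Z A.k A.pts prev r) (roleMem A.pts prev reps) n 0 = true)
    (horb : ∀ R ∈ reps, orbitOK A.Z R.O R.Pos A.k n R.c R.U R.c 0 = true)
    (hst : A.State τ prev) : ∃ R ∈ reps, A.State τ (prev ++ [(r, R.g)]) := by
  obtain ⟨a, ha⟩ := hst
  simp only [repsOK, Bool.and_eq_true, List.all_eq_true, Nat.blt_eq, Nat.beq_eq,
    Bool.not_eq_true', beq_eq_false_iff_ne, ne_eq, and_assoc] at hok
  obtain ⟨hr, hprev, hreps⟩ := hok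
  set q := A.f a (τ r) with hqdef
  have hmem := scanOK_get hscan q.1 (Nat.zero_le _) (by omega)
    (A.roleConds_hold φ hτ hr (fun hg h => ⟨(hprev hg h).1, (hprev hg h).2.1⟩) ha)
  rw [roleMem, Bool.or_eq_true, elemN_iff, memReps_iff] at hmem
  rcases hmem with hmem | ⟨R, hR, hmem⟩
  · exfalso
    obtain ⟨hg, h, he⟩ := List.mem_map.1 hmem
    obtain ⟨h1, -, h3⟩ := hprev hg h
    have h4 : A.f a (τ hg.1) = A.f a (τ r) := Fin.ext ((ha hg h).trans he)
    have h5 := congrArg A.delta ((A.f a).injective h4)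
    rw [hτ _ h1, hτ _ hr, φ.injective.eq_iff, ← A.delta_pts h1, ← A.delta_pts hr] at h5
    have h6 : A.pts.getD hg.1 0 = A.pts.getD r 0 := congrArg Fin.val (A.delta_injective h5)
    rw [h6] at h3
    simp at h3
  obtain ⟨hc, hO, hU⟩ := hreps R hR
  simp only [member, force_eq, Bool.and_eq_true, Nat.blt_eq, Nat.beq_eq] at hmem
  obtain ⟨p, hp, hcard, hpos⟩ := orbit_eq A.x A.f A.perm A.k_le A.f_gen (horb R hR) hc
  -- the listed points are exactly the orbit
  have hget := fun j (hj : j < R.c) => orbitOK_get (horb R hR) j (Nat.zero_le _) (by omega)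
  set S := (fun b : G => A.f b p) ''
    (Subgroup.closure ((wordVal A.x) '' {u | u ∈ R.U}) : Set G) with hS
  let T : Set (Fin n) := {z | ∃ j : Fin R.c, R.O.getP j.1 / B / B = z.1}
  have hTS : S = T := by
    have hle : ∀ z, z ∈ T → z ∈ S := by
      rintro z ⟨⟨j, hj⟩, hz⟩
      induction j using Nat.strong_induction_on generalizing z with
      | _ j ih =>
        rcases (hget j hj).2.2.1 with rfl | ⟨h1, h2⟩
        · refine ⟨1, one_mem _, Fin.ext ?_⟩
          show (A.f 1 p).1 = z.1
          rw [map_one, Equiv.Perm.one_apply, hp]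
          exact hz
        · obtain ⟨b, hb, hbp⟩ := ih _ h1 ⟨_, (hget _ (by omega)).1⟩ (by omega) rfl
          simp only at hbp hz
          by_cases hlt : R.O.getP j % B < R.U.length
          · rw [List.getD_eq_getElem _ _ hlt] at h2
            refine ⟨wordVal A.x R.U[R.O.getP j % B] * b,
              mul_mem (Subgroup.subset_closure ⟨_, List.getElem_mem hlt, rfl⟩) hb, Fin.ext ?_⟩
            show (A.f (_ * b) p).1 = z.1
            rw [map_mul, Equiv.Perm.mul_apply, hbp,
              A.walk_apply ((hget j hj).2.2.2 _ (List.getElem_mem hlt)).1, ← hz]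
            exact h2
          · rw [List.getD_eq_default _ _ (by omega), twalk_nil] at h2
            refine ⟨b, hb, ?_⟩
            show A.f b p = z
            rw [hbp]
            exact Fin.ext (by rw [← hz]; exact h2)
    refine (Set.eq_of_subset_of_ncard_le hle ?_ (Set.toFinite _)).symm
    rw [hS, hcard]
    let pt : Fin R.c → Fin n := fun j => ⟨R.O.getP j.1 / B / B, (hget j.1 j.2).1⟩
    have hinj : Function.Injective pt := by
      intro i j hij
      have h1 := congrArg (fun z : Fin n => R.Pos.getP z.1) hij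
      simp only [pt] at h1
      rw [(hget i.1 i.2).2.1, (hget j.1 j.2).2.1] at h1
      exact Fin.ext h1
    calc R.c = (Set.range pt).ncard := by
          rw [← Set.image_univ, Set.ncard_image_of_injective _ hinj, Set.ncard_univ, Nat.card_fin]
      _ ≤ T.ncard := by
          refine Set.ncard_le_ncard ?_ (Set.toFinite _)
          rintro _ ⟨j, rfl⟩
          exact ⟨j, rfl⟩
  obtain ⟨b, hb, hbq⟩ : q ∈ S := hTS ▸ (⟨⟨_, hmem.1⟩, hmem.2⟩ : q ∈ T)
  have hfix : ∀ c ∈ Subgroup.closure ((wordVal A.x) '' {u | u ∈ R.U}), ∀ hg ∈ prev,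
      ∀ i : Fin n, i.1 = A.pts.getD hg.2 0 → A.f c i = i := by
    intro c hc hg h i hi
    have hle : Subgroup.closure ((wordVal A.x) '' {u | u ∈ R.U}) ≤
        (MulAction.stabilizer (Equiv.Perm (Fin n)) i).comap A.f := by
      rw [Subgroup.closure_le]
      rintro _ ⟨u, hu, rfl⟩
      refine Fin.ext ?_
      show (A.f (wordVal A.x u) i).1 = i.1
      rw [A.walk_apply ((hget 0 ‹0 < R.c›).2.2.2 u hu).1, hi]
      exact hU u hu hg h
    exact hle hc
  refine ⟨R, hR, b⁻¹ * a, fun hg h => ?_⟩
  rw [List.mem_append, List.mem_singleton] at h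
  rcases h with h | rfl
  · rw [map_mul, Equiv.Perm.mul_apply, hfix b⁻¹ (inv_mem hb) hg h _ (ha hg h), ha hg h]
  · rw [map_mul, Equiv.Perm.mul_apply, map_inv, Equiv.Perm.inv_def,
      show (A.f b).symm (A.f a (τ r)) = p from (Equiv.symm_apply_eq _).2 hbq.symm, hp, hO]

end TransTable

end Cfsg.Lib.CosetEnum
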