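import Cfsg.Agent.Lib.CosetEnum.Trans.Basic
import Cfsg.Prelude.Def_KGroupFacts

/-!
# Automorphisms fixing the configuration of generators are inner
-/

set_option autoImplicit false

namespace Cfsg.Lib.CosetEnum

/-- The pattern of two adjacent pairs and one commuting pair in a list of candidates. -/
noncomputable def leafOK (Z : Tab) (k : Nat) (pts : List Nat) (r : Nat × Nat × Nat)
    (ws : List (List Nat)) (C : List Nat) : Bool :=
  Nat.beq ws.length C.length && Nat.blt r.1 k && Nat.blt r.2.1 k && Nat.blt r.2.2 k &&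
    !(Nat.beq (pts.getD r.1 0) (pts.getD r.2.2 0)) &&
    (List.range C.length).all fun i => (ws.getD i []).all (fun g => Nat.blt g k) &&
      Nat.beq (twalk Z k (ws.getD i []) (pts.getD 0 0)) (C.getD i 0) &&
      (List.range C.length).all fun j => (List.range C.length).all fun l =>
        Nat.beq i l || !(cond (Nat.beq (twalk Z k (conjWord (ws.getD i [])) (C.getD j 0)) (C.getD j 0))
            (Nat.beq (img Z k r.1 (pts.getD r.2.1 0)) (pts.getD r.2.1 0))
            (!(Nat.beq (img Z k r.1 (pts.getD r.2.1 0)) (pts.getD r.2.1 0))) &&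
          cond (Nat.beq (twalk Z k (conjWord (ws.getD j [])) (C.getD l 0)) (C.getD l 0))
            (Nat.beq (img Z k r.2.1 (pts.getD r.2.2 0)) (pts.getD r.2.2 0))
            (!(Nat.beq (img Z k r.2.1 (pts.getD r.2.2 0)) (pts.getD r.2.2 0))) &&
          cond (Nat.beq (twalk Z k (conjWord (ws.getD i [])) (C.getD l 0)) (C.getD l 0))
            (Nat.beq (img Z k r.1 (pts.getD r.2.2 0)) (pts.getD r.2.2 0))
            (!(Nat.beq (img Z k r.1 (pts.getD r.2.2 0)) (pts.getD r.2.2 0))))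

namespace TransTable

variable {G : Type*} [Group G] {n : ℕ} (A : TransTable G n)

/-- Three roles without room in the candidates. -/
theorem leaf_false (φ : G ≃* G) {τ : ℕ → Fin n} (hτ : ∀ r < A.k, A.delta (τ r) = φ (A.x r))
    {prev : List (ℕ × ℕ)} {r : ℕ × ℕ × ℕ} {ws : List (List ℕ)} {C : List ℕ}
    (hok : leafOK A.Z A.k A.pts r ws C = true)
    (hprev : prev.all (fun hg => Nat.blt hg.1 A.k && Nat.blt hg.2 A.k) = true)
    (hscan : ∀ s ∈ [r.1, r.2.1, r.2.2],
      scanOK A.Z A.k (roleConds A.Z A.k A.pts prev s) (elemN C) n 0 = true)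
    (hst : A.State τ prev) : False := by
  obtain ⟨a, ha⟩ := hst
  simp only [List.all_eq_true, Bool.and_eq_true, Nat.blt_eq] at hprev
  simp only [leafOK, Bool.and_eq_true, Nat.blt_eq, Nat.beq_eq, and_assoc] at hok
  obtain ⟨hlen, h1, h2, h3, hne, hok⟩ := hok
  rw [List.all_eq_true] at hok
  have hmem : ∀ s ∈ [r.1, r.2.1, r.2.2], s < A.k →
      ∃ i < C.length, C.getD i 0 = (A.f a (τ s)).1 := by
    intro s hs hsk
    have := elemN_iff.1 (scanOK_get (hscan s hs) _ (Nat.zero_le _) (by omega)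
      (A.roleConds_hold φ hτ hsk hprev ha))
    obtain ⟨i, hi, he⟩ := List.getElem_of_mem this
    exact ⟨i, hi, by rw [List.getD_eq_getElem _ _ hi, he]⟩
  obtain ⟨i, hi, ei⟩ := hmem r.1 (by simp) h1
  obtain ⟨j, hj, ej⟩ := hmem r.2.1 (by simp) h2
  obtain ⟨l, hl, el⟩ := hmem r.2.2 (by simp) h3
  have key : ∀ (i : ℕ), i < C.length → ∀ (s t m : ℕ), s < A.k → t < A.k →
      C.getD i 0 = (A.f a (τ s)).1 → C.getD m 0 = (A.f a (τ t)).1 →
      cond (Nat.beq (twalk A.Z A.k (conjWord (ws.getD i [])) (C.getD m 0)) (C.getD m 0))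
        (Nat.beq (img A.Z A.k s (A.pts.getD t 0)) (A.pts.getD t 0))
        (!(Nat.beq (img A.Z A.k s (A.pts.getD t 0)) (A.pts.getD t 0))) = true := by
    intro i hi s t m hs ht es et
    have h := hok i (List.mem_range.2 hi)
    simp only [Bool.and_eq_true, List.all_eq_true, Nat.blt_eq, Nat.beq_eq, and_assoc] at h
    obtain ⟨hw, hC, -⟩ := h
    have hk0 : 0 < A.k := by omega
    have hd := A.delta_conjWord hk0 hw
    have hii : (⟨_, A.twalk_lt hw (A.pts_lt hk0)⟩ : Fin n) = A.f a (τ s) :=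
      Fin.ext (hC.trans es)
    rw [hii, A.delta_apply, hτ s hs] at hd
    have hcc : ∀ u v : G, MulAut.conj a (φ u) * MulAut.conj a (φ v) =
        MulAut.conj a (φ v) * MulAut.conj a (φ u) ↔ u * v = v * u := fun u v => by
      rw [← map_mul, ← map_mul, ← map_mul, ← map_mul, (MulAut.conj a).injective.eq_iff,
        φ.injective.eq_iff]
    have hiff : twalk A.Z A.k (conjWord (ws.getD i [])) (A.f a (τ t)).1 = (A.f a (τ t)).1 ↔
        img A.Z A.k s (A.pts.getD t 0) = A.pts.getD t 0 := by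
      rw [← A.walk_apply (A.conjWord_lt hk0 hw), ← Fin.ext_iff, ← A.commute_delta_iff, ← hd,
        A.delta_apply, hτ t ht, show a * φ (A.x s) * a⁻¹ = MulAut.conj a (φ (A.x s)) from rfl,
        show a * φ (A.x t) * a⁻¹ = MulAut.conj a (φ (A.x t)) from rfl, hcc,
        ← A.delta_pts ht, A.commute_gen_iff hs, twalk_cons, twalk_nil]
    rw [et]
    by_cases h : img A.Z A.k s (A.pts.getD t 0) = A.pts.getD t 0
    · rw [hiff.2 h, h]; simp
    · have := fun e => h (hiff.1 e)
      cases hb : Nat.beq (twalk A.Z A.k (conjWord (ws.getD i [])) (A.f a (τ t)).1) (A.f a (τ t)).1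
      · cases hb' : Nat.beq (img A.Z A.k s (A.pts.getD t 0)) (A.pts.getD t 0)
        · rfl
        · exact absurd (Nat.eq_of_beq_eq_true hb') h
      · exact absurd (Nat.eq_of_beq_eq_true hb) this
  have hij := key i hi r.1 r.2.1 j h1 h2 ei ej
  have hjl := key j hj r.2.1 r.2.2 l h2 h3 ej el
  have hil := key i hi r.1 r.2.2 l h1 h3 ei el
  have h := hok i (List.mem_range.2 hi)
  rw [Bool.and_eq_true] at h
  have h' := List.all_eq_true.1 (List.all_eq_true.1 h.2 j (List.mem_range.2 hj)) l (List.mem_range.2 hl)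
  rw [hij, hjl, hil] at h'
  simp only [Bool.and_self, Bool.not_true, Bool.or_false, Nat.beq_eq] at h'
  subst h'
  have he := Fin.ext (el.symm.trans ei)
  have h4 := congrArg A.delta ((A.f a).injective he)
  rw [hτ _ h1, hτ _ h3, φ.injective.eq_iff, ← A.delta_pts h1, ← A.delta_pts h3] at h4
  have h5 : A.pts.getD r.2.2 0 = A.pts.getD r.1 0 := congrArg Fin.val (A.delta_injective h4)
  rw [Bool.not_eq_true', h5] at hne
  simp at hne

/-- All roles back at their generators: the automorphism is inner. -/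
theorem mem_inn (φ : MulAut G) {τ : ℕ → Fin n} (hτ : ∀ r < A.k, A.delta (τ r) = φ (A.x r))
    {prev : List (ℕ × ℕ)} (hall : ∀ g < A.k, (g, g) ∈ prev) (hst : A.State τ prev) :
    φ ∈ Cfsg.Inn G := by
  obtain ⟨a, ha⟩ := hst
  refine ⟨a⁻¹, ?_⟩
  refine MulEquiv.toMonoidHom_injective (MonoidHom.eq_of_eqOn_dense A.gen ?_)
  rintro _ ⟨g, hg, rfl⟩
  show a⁻¹ * A.x g * a⁻¹⁻¹ = φ (A.x g)
  have h : A.f a (τ g) = ⟨A.pts.getD g 0, A.pts_lt hg⟩ := Fin.ext (ha (g, g) (hall g hg))
  have h2 := A.delta_apply a (τ g)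
  rw [h, A.delta_pts hg, hτ g hg] at h2
  nth_rewrite 1 [h2]
  group

end TransTable

end Cfsg.Lib.CosetEnum
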