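import Cfsg.Agent.Lib.CosetEnum.Trans.Defs

/-!
# Certificates for normal elementary abelian subgroups above a frame
-/

set_option autoImplicit false

namespace Cfsg.Lib.CosetEnum

/-- The composite of two maps given by their lists of images, the right one first. -/
def compL (a b : List Nat) : List Nat :=
  b.map fun i => a.getD i 0

/-- Membership in a list of lists. -/
def memW (l : List (List Nat)) (x : List Nat) : Bool :=
  l.any fun y => beqW x y

/-- No two listed maps agree. -/
def nodupW : List (List Nat) → Bool
  | [] => true
  | x :: l => !(memW l x) && nodupW l

/-- A derivation step: a product of two known maps, or a conjugate of a known one by a generator. -/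
inductive Deriv
  | mul (i j : Nat)
  | conj (i g : Nat)

/-- Extend a list of known maps by derivation steps. -/
def derive (gens ginv : List (List Nat)) : List (List Nat) → List Deriv → List (List Nat)
  | known, [] => known
  | known, .mul i j :: ops =>
    derive gens ginv (cond (Nat.blt i known.length && Nat.blt j known.length)
      (known ++ [compL (known.getD i []) (known.getD j [])]) known) ops
  | known, .conj i g :: ops =>
    derive gens ginv (cond (Nat.blt i known.length && Nat.blt g gens.length)
      (known ++ [compL (gens.getD g []) (compL (known.getD i []) (ginv.getD g []))]) known) ops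

/-- A witness that a normal subgroup above a listed one is larger in a listed way, or not abelian. -/
structure Grow where
  /-- The listed subgroup. -/
  b : Nat
  /-- The further element. -/
  x : Nat
  /-- The steps. -/
  ops : List Deriv
  /-- The larger listed subgroup, or none. -/
  sup : Option Nat
  /-- The known maps that do not commute. -/
  p : Nat
  /-- The second of them. -/
  q : Nat

/-- Check a witness. -/
def growOK (gens ginv Dl : List (List Nat)) (Bs : List (List (List Nat))) (w : Grow) : Bool :=
  let B := Bs.getD w.b []
  let known := derive gens ginv (B ++ [Dl.getD w.x []]) w.ops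
  match w.sup with
  | some c => Nat.blt c Bs.length && Nat.blt B.length (Bs.getD c []).length &&
      (Bs.getD c []).all (memW known)
  | none => Nat.blt w.p known.length && Nat.blt w.q known.length &&
      !(beqW (compL (known.getD w.p []) (known.getD w.q [])) (compL (known.getD w.q []) (known.getD w.p [])))

/-- All possible extensions are witnessed. -/
def growAllOK (m : Nat) (gens ginv Dl : List (List Nat)) (Bs : List (List (List Nat)))
    (ws : List Grow) : Bool :=
  (ws.all (growOK gens ginv Dl Bs)) && (List.range Bs.length).all fun b => (List.range Dl.length).all fun x =>
    memW (Bs.getD b []) (Dl.getD x []) ||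
      !(beqW (compL (Dl.getD x []) (Dl.getD x [])) (List.range m)) ||
      ws.any fun w => Nat.beq w.b b && Nat.beq w.x x

/-- The list is the closure of the generators. -/
def groupListOK (m : Nat) (gens ginv Dl : List (List Nat)) (par : List (Nat × Nat)) : Bool :=
  nodupW Dl && Nat.blt 0 Dl.length && beqW (Dl.getD 0 []) (List.range m) &&
  (List.range gens.length).all (fun g => Nat.beq (ginv.getD g []).length m &&
    beqW (compL (ginv.getD g []) (gens.getD g [])) (List.range m)) &&
  ((List.range Dl.length).all fun j => Nat.beq j 0 ||
    (Nat.blt (par.getD j (0, 0)).1 gens.length && Nat.blt (par.getD j (0, 0)).2 j &&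
      beqW (Dl.getD j []) (compL (gens.getD (par.getD j (0, 0)).1 []) (Dl.getD (par.getD j (0, 0)).2 [])))) &&
  Dl.all fun d => gens.all fun g => memW Dl (compL g d)

/-- A word moves the frame as the listed map. -/
noncomputable def liftOK (Z : Tab) (k : Nat) (fps : List Nat) (w g : List Nat) : Bool :=
  (w.all fun l => Nat.blt l k) && Nat.beq g.length fps.length &&
    (List.range fps.length).all fun i => Nat.blt (g.getD i 0) fps.length &&
      Nat.beq (twalk Z k w (fps.getD i 0)) (fps.getD (g.getD i 0) 0)

/-- An entry commutes with some words at the base points. -/
noncomputable def fixEntry (Z : Tab) (k : Nat) (tws : List (List Nat)) (ps : List Nat)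
    (us : List (List Nat)) (e : Entry) : Bool :=
  us.all fun w => ps.all fun p =>
    Nat.beq (twalk Z k (prodWord tws e.s ++ w) p) (twalk Z k (w ++ prodWord tws e.s) p)

/-- The number of listed elements that may commute with some words. -/
noncomputable def fixCountEntries (Z : Tab) (k : Nat) (tws : List (List Nat)) (ps : List Nat)
    (us : List (List Nat)) (L : List Entry) : Nat :=
  L.countP (fixEntry Z k tws ps us)

/-- A listed subgroup has few fixed elements. -/
noncomputable def boundOK (Z : Tab) (k : Nat) (fps : List Nat) (tws : List (List Nat))
    (ps : List Nat) (L : List Entry) (B : List (List Nat)) (sel : List (Nat × List Nat)) : Bool :=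
  (sel.all fun e => Nat.blt e.1 B.length && liftOK Z k fps e.2 (B.getD e.1 [])) &&
    Nat.blt (B.length * fixCountEntries Z k tws ps (sel.map (·.2)) L) L.length

end Cfsg.Lib.CosetEnum
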