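import Cfsg.Agent.Lib.CosetEnum.Trans.ClassTwo
import Cfsg.Agent.Lib.CosetEnum.Trans.DefsNormal
import Cfsg.Prelude.Def_Transfer

/-!
# The largest normal elementary abelian subgroups of a Sylow subgroup above a frame
-/

set_option autoImplicit false

namespace Cfsg.Lib.CosetEnum

/-- The images of a permutation as a list. -/
def permList {m : ℕ} (π : Equiv.Perm (Fin m)) : List ℕ := List.ofFn fun i => (π i).val

theorem permList_getD {m : ℕ} (π : Equiv.Perm (Fin m)) (i : Fin m) :
    (permList π).getD i.1 0 = (π i).1 := by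
  rw [permList, List.getD_eq_getElem _ _ (by simp), List.getElem_ofFn]

theorem permList_mul {m : ℕ} (π π' : Equiv.Perm (Fin m)) :
    permList (π * π') = compL (permList π) (permList π') := by
  simp only [compL, permList, List.map_ofFn]
  congr 1
  funext i
  simp only [Function.comp_apply, Equiv.Perm.mul_apply]
  exact (permList_getD π (π' i)).symm

theorem permList_one {m : ℕ} : permList (1 : Equiv.Perm (Fin m)) = List.range m := by
  refine List.ext_getElem (by simp [permList]) fun i h1 h2 => ?_
  simp [permList]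

theorem permList_injective {m : ℕ} : Function.Injective (permList (m := m)) := fun π π' h =>
  Equiv.ext fun i => Fin.ext (by rw [← permList_getD π i, ← permList_getD π' i, h])

theorem memW_iff {l : List (List ℕ)} {x : List ℕ} : memW l x = true ↔ x ∈ l := by
  simp only [memW, List.any_eq_true]
  constructor
  · rintro ⟨y, hy, he⟩
    rwa [beqW_eq he]
  · intro h
    refine ⟨x, h, ?_⟩
    induction x with
    | nil => rfl
    | cons a x ih => simp only [beqW, Bool.and_eq_true, Nat.beq_eq, true_and]; exact beqW_self x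
where
  beqW_self : ∀ x : List ℕ, beqW x x = true
    | [] => rfl
    | a :: x => by simp only [beqW, Bool.and_eq_true, Nat.beq_eq, true_and]; exact beqW_self x

theorem nodupW_iff {l : List (List ℕ)} : nodupW l = true → l.Nodup := by
  induction l with
  | nil => simp
  | cons a l ih =>
    intro h
    simp only [nodupW, Bool.and_eq_true, Bool.not_eq_true'] at h
    exact List.nodup_cons.2 ⟨fun hm => by rw [memW_iff.2 hm] at h; simp at h, ih h.2⟩

namespace TransTable

variable {G : Type*} [Group G] [Finite G] {n : ℕ} (A : TransTable G n)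

/-- The listed products of the frame are exactly its centraliser. -/
theorem exists_cent_enum (hc : Subgroup.center G = ⊥) {fg : List ℕ} {aux : List (List ℕ)}
    (hframe : frameOK A.Z A.k A.pts fg aux = true) {l : List (ℕ × List ℕ)}
    (hl : A.CentChain (frameWords fg aux) l) {L : List Entry}
    (hinc : incB (L.map Entry.code) = true) (hlen : L.length = (l.map fun e => e.2.length).prod)
    {ps : List ℕ} (hps : ∀ p ∈ ps, p < n)
    (hL : ∀ e ∈ L, entryOK A.Z A.k n (frameWords fg aux) ps e = true) :
    (∀ e ∈ L, (∀ g ∈ prodWord (frameWords fg aux) e.s, g < A.k) ∧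
      ∀ j ∈ e.s, (frameWords fg aux).getD j [] ∈ frameWords fg aux) ∧
    ∃ val : Fin L.length → A.cent (frameWords fg aux), Function.Bijective val ∧
      ∀ i, (val i : G) = wordVal A.x (prodWord (frameWords fg aux) L[i.1].s) := by
  set tws := frameWords fg aux with htws
  have hin : ∀ w ∈ tws, wordVal A.x w ∈ A.cent tws := fun w hw =>
    A.mem_cent.2 fun v hv => A.frame_commute hframe hv hw
  have hprod : ∀ e ∈ L, (∀ g ∈ prodWord tws e.s, g < A.k) ∧
      (∀ j ∈ e.s, tws.getD j [] ∈ tws) ∧ wordVal A.x (prodWord tws e.s) ∈ A.cent tws := by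
    intro e he
    have he' := hL e he
    simp only [entryOK, Bool.and_eq_true, List.all_eq_true, Nat.blt_eq, and_assoc] at he'
    have hall : ∀ j ∈ e.s, tws.getD j [] ∈ tws := fun j hj => by
      rw [List.getD_eq_getElem _ _ (he'.1 j hj)]
      exact List.getElem_mem _
    generalize e.s = s at hall ⊢
    induction s with
    | nil => exact ⟨by simp [prodWord], by simp, one_mem _⟩
    | cons j s ih =>
      obtain ⟨h1, -, h2⟩ := ih fun i hi => hall i (by simp [hi])
      have hj := hall j (by simp)
      rw [show prodWord tws (j :: s) = tws.getD j [] ++ prodWord tws s from rfl]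
      refine ⟨fun g hg => ?_, hall, ?_⟩
      · rcases List.mem_append.1 hg with hg | hg
        exacts [(A.frame_word hframe hj).1 g hg, h1 g hg]
      · rw [wordVal_append]
        exact mul_mem h2 (hin _ hj)
  refine ⟨fun e he => ⟨(hprod e he).1, (hprod e he).2.1⟩, ?_⟩
  let val : Fin L.length → A.cent tws := fun i =>
    ⟨_, (hprod L[i.1] (List.getElem_mem i.2)).2.2⟩
  have hval : Function.Injective val := by
    intro i j hij
    have heq : wordVal A.x (prodWord tws L[i.1].s) = wordVal A.x (prodWord tws L[j.1].s) :=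
      congrArg Subtype.val hij
    have hcode : L[i.1].code = L[j.1].code := by
      have hi := hL L[i.1] (List.getElem_mem i.2)
      have hj := hL L[j.1] (List.getElem_mem j.2)
      simp only [entryOK, Bool.and_eq_true, Nat.beq_eq, and_assoc] at hi hj
      rw [← hi.2.1, ← hj.2.1]
      have : ∀ (qs : List ℕ), (∀ p ∈ qs, p < n) →
          codeOf A.Z A.k n (prodWord tws L[i.1].s) qs = codeOf A.Z A.k n (prodWord tws L[j.1].s) qs := by
        intro qs
        induction qs with
        | nil => intro _; rfl
        | cons p qs ih =>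
          intro h
          have hp : p < n := h p (by simp)
          rw [codeOf, codeOf, ih fun a ha => h a (by simp [ha]),
            ← A.walk_apply (hprod L[i.1] (List.getElem_mem i.2)).1 ⟨p, hp⟩,
            ← A.walk_apply (hprod L[j.1] (List.getElem_mem j.2)).1 ⟨p, hp⟩, heq]
      exact this ps hps
    have hnd : (L.map Entry.code).Nodup := (incB_pairwise hinc).imp fun h => Nat.ne_of_lt h
    exact Fin.ext ((hnd.getElem_inj_iff (hi := by simp) (hj := by simp)).1 (by simpa using hcode))
  exact ⟨val, hval.bijective_of_nat_card_le (by rw [Nat.card_fin, hlen]; exact A.card_cent_le hc l tws hl),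
    fun i => rfl⟩

/-- The bound on normal elementary abelian subgroups, and the uniqueness of the largest. -/
theorem normal_elementary_abelian (hc : Subgroup.center G = ⊥) (hd2 : A.d * A.d = 1) {fg : List ℕ}
    {aux : List (List ℕ)} (hframe : frameOK A.Z A.k A.pts fg aux = true) {l : List (ℕ × List ℕ)}
    (hl : A.CentChain (frameWords fg aux) l) {L : List Entry}
    (hinc : incB (L.map Entry.code) = true) (hlen : L.length = (l.map fun e => e.2.length).prod)
    {ps : List ℕ} (hps : ∀ p ∈ ps, p < n)
    (hL : ∀ e ∈ L, entryOK A.Z A.k n (frameWords fg aux) ps e = true)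
    {m : ℕ} (hm : (framePts A.Z A.k A.pts fg aux).length = m)
    (hnd : (framePts A.Z A.k A.pts fg aux).Nodup)
    {gens ginv lifts Dl : List (List ℕ)} {par : List (ℕ × ℕ)}
    (hgrp : groupListOK m gens ginv Dl par = true) (hlifts : lifts.length = gens.length)
    (hlift : ∀ i < gens.length,
      liftOK A.Z A.k (framePts A.Z A.k A.pts fg aux) (lifts.getD i []) (gens.getD i []) = true)
    {Bs : List (List (List ℕ))} (hB0 : Bs.getD 0 [] = [List.range m]) (hBpos : 0 < Bs.length)
    {ws : List Grow} (hgrow : growAllOK m gens ginv Dl Bs ws = true)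
    {sel : List (List (ℕ × List ℕ))}
    (hbound : ∀ b < Bs.length, b ≠ 0 → boundOK A.Z A.k (framePts A.Z A.k A.pts fg aux)
      (frameWords fg aux) ps L (Bs.getD b []) (sel.getD b []) = true)
    (hsyl : 2 ^ (Nat.card G).factorization 2 = L.length * Dl.length) (T : Sylow 2 G) :
    (∀ V : Subgroup G, V ≤ T → (V.subgroupOf T).Normal → Cfsg.IsElementaryAbelian 2 V →
        Nat.card V ≤ L.length) ∧
    ∃! V : Subgroup G, V ≤ T ∧ (V.subgroupOf T).Normal ∧ Cfsg.IsElementaryAbelian 2 V ∧
        Nat.card V = L.length := by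
  have : Fact (Nat.Prime 2) := ⟨Nat.prime_two⟩
  set tws := frameWords fg aux with htws
  set fps := framePts A.Z A.k A.pts fg aux with hfps
  set E := A.cent tws with hE
  obtain ⟨hlet, val, hval, hvaleq⟩ := A.exists_cent_enum hc hframe hl hinc hlen hps hL
  rw [← htws] at hlet
  have hlt : fps.length = tws.length := by simp [hfps, htws, framePts, frameWords]
  have hptlt : ∀ i : Fin m, fps.getD i.1 0 < n := fun i =>
    (A.frame_getD hframe (by rw [← htws, ← hlt, hm]; exact i.2)).1
  let fpt : Fin m → Fin n := fun i => ⟨fps.getD i.1 0, hptlt i⟩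
  have hfinj : Function.Injective fpt := by
    intro i j h
    have h' : fps.getD i.1 0 = fps.getD j.1 0 := congrArg Fin.val h
    rw [List.getD_eq_getElem _ _ (by rw [hm]; exact i.2), List.getD_eq_getElem _ _ (by rw [hm]; exact j.2)] at h'
    exact Fin.ext ((hnd.getElem_inj_iff).1 h')
  -- the normaliser of the frame and its action
  let N : Subgroup G :=
    { carrier := {g | ∀ i, ∃ j, A.f g (fpt i) = fpt j}
      one_mem' := fun i => ⟨i, by simp⟩
      mul_mem' := fun {a b} ha hb i => by
        obtain ⟨j, hj⟩ := hb i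
        obtain ⟨l, hl⟩ := ha j
        exact ⟨l, by rw [map_mul, Equiv.Perm.mul_apply, hj, hl]⟩
      inv_mem' := fun {a} ha i => by
        choose g hg using ha
        have hgi : Function.Injective g := fun u v huv =>
          hfinj ((A.f a).injective (by rw [hg, hg, huv]))
        obtain ⟨j, hj⟩ := (Finite.injective_iff_surjective.1 hgi) i
        exact ⟨j, by rw [← hj, ← hg, map_inv, Equiv.Perm.inv_def, Equiv.symm_apply_apply]⟩ }
  have hex : ∀ (g : N) (i : Fin m), ∃ j, A.f (g : G) (fpt i) = fpt j := fun g i => g.2 i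
  choose r hr using hex
  let ρ : N →* Equiv.Perm (Fin m) :=
    MonoidHom.mk' (fun g => Equiv.ofBijective (r g) ((Finite.injective_iff_bijective).1 fun u v huv =>
        hfinj ((A.f (g : G)).injective (by rw [hr, hr, huv]))))
      (fun a b => Equiv.ext fun i => hfinj (by
        show fpt (r (a * b) i) = fpt (r a (r b i))
        rw [← hr, ← hr, Subgroup.coe_mul, map_mul, Equiv.Perm.mul_apply, hr b i]))
  have hρ : ∀ (g : N) (i : Fin m), fpt (ρ g i) = A.f (g : G) (fpt i) := fun g i => (hr g i).symm
  have hfix : ∀ g : G, g ∈ E ↔ ∀ i, A.f g (fpt i) = fpt i := by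
    intro g
    rw [hE, A.mem_cent]
    constructor
    · intro h i
      obtain ⟨_, hd⟩ := A.frame_getD hframe (i := i.1) (by rw [← htws, ← hlt, hm]; exact i.2)
      rw [← A.commute_delta_iff, show A.delta (fpt i) = _ from hd]
      refine (h _ ?_).symm
      rw [List.getD_eq_getElem _ _ (by rw [← htws, ← hlt, hm]; exact i.2)]
      exact List.getElem_mem _
    · intro h w hw
      obtain ⟨i, hi, rfl⟩ := List.getElem_of_mem hw
      obtain ⟨_, hd⟩ := A.frame_getD hframe (i := i) hi
      rw [← List.getD_eq_getElem _ [] hi, ← hd]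
      exact ((A.commute_delta_iff g _).2 (h ⟨i, by rw [← hm, hlt]; exact hi⟩)).symm
  have hEN : ∀ g ∈ E, g ∈ N := fun g hg i => ⟨i, (hfix g).1 hg i⟩
  have hker : ∀ g : N, ρ g = 1 ↔ (g : G) ∈ E := by
    intro g
    rw [hfix]
    constructor
    · intro h i
      rw [← hρ, h, Equiv.Perm.one_apply]
    · intro h
      refine Equiv.ext fun i => hfinj ?_
      rw [hρ, h, Equiv.Perm.one_apply]
  -- the group of listed maps
  simp only [groupListOK, Bool.and_eq_true, List.all_eq_true, List.mem_range, Bool.or_eq_true,
    Nat.beq_eq, Nat.blt_eq, and_assoc] at hgrp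
  obtain ⟨hDnd, hDpos, hD0, hinv, hpath, hclosed⟩ := hgrp
  have hD0 := beqW_eq hD0
  have hlift' : ∀ i < gens.length, ∃ g : N, permList (ρ g) = gens.getD i [] := by
    intro i hi
    have h := hlift i hi
    simp only [liftOK, Bool.and_eq_true, List.all_eq_true, List.mem_range, Nat.blt_eq, Nat.beq_eq,
      and_assoc] at h
    obtain ⟨hw, hglen, himg⟩ := h
    set w := lifts.getD i []
    set u := gens.getD i []
    have himg' : ∀ j : Fin m, ∃ h : u.getD j.1 0 < m,
        A.f (wordVal A.x w) (fpt j) = fpt ⟨u.getD j.1 0, h⟩ := fun j => by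
      obtain ⟨h1, h2⟩ := himg j.1 (by rw [hm]; exact j.2)
      rw [hm] at h1
      exact ⟨h1, Fin.ext (by rw [A.walk_apply hw]; exact h2)⟩
    have hmem : wordVal A.x w ∈ N := fun j => ⟨_, (himg' j).2⟩
    refine ⟨⟨_, hmem⟩, List.ext_getElem (by rw [hglen, hm]; simp [permList]) fun j h1 h2 => ?_⟩
    have hj : j < m := by simpa [permList] using h1
    obtain ⟨h3, h4⟩ := himg' ⟨j, hj⟩
    rw [← List.getD_eq_getElem _ 0 h1, ← List.getD_eq_getElem _ 0 h2,
      permList_getD _ (⟨j, hj⟩ : Fin m)]
    exact congrArg Fin.val (hfinj ((hρ ⟨_, hmem⟩ ⟨j, hj⟩).trans h4))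
  choose gen hgen using hlift'
  let D : Subgroup (Equiv.Perm (Fin m)) := Subgroup.closure
    {π | ∃ i, ∃ h : i < gens.length, π = ρ (gen i h)}
  have hDrange : D ≤ ρ.range := by
    rw [Subgroup.closure_le]
    rintro _ ⟨i, h, rfl⟩
    exact ⟨_, rfl⟩
  have hDget : ∀ j, j < Dl.length → ∃ π ∈ D, permList π = Dl.getD j [] := by
    intro j hj
    induction j using Nat.strong_induction_on with
    | _ j ih =>
      rcases Nat.eq_zero_or_pos j with rfl | hj0
      · exact ⟨1, one_mem _, by rw [permList_one, hD0]⟩
      · obtain ⟨h1, h2, h3⟩ := (hpath j hj).resolve_left (by omega)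
        obtain ⟨π, hπ, he⟩ := ih _ h2 (h2.trans hj)
        refine ⟨ρ (gen _ h1) * π, mul_mem (Subgroup.subset_closure ⟨_, h1, rfl⟩) hπ, ?_⟩
        rw [permList_mul, hgen _ h1, he, beqW_eq h3]
  have hDlist : ∀ π : Equiv.Perm (Fin m), π ∈ D ↔ permList π ∈ Dl := by
    intro π
    constructor
    · intro hπ
      have hπ' : π ∈ Submonoid.closure {π | ∃ i, ∃ h : i < gens.length, π = ρ (gen i h)} := by
        rw [← Subgroup.closure_toSubmonoid_of_finite]; exact hπ
      clear hπ
      induction hπ' using Submonoid.closure_induction_left with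
      | one =>
        rw [permList_one, ← hD0, List.getD_eq_getElem _ _ hDpos]
        exact List.getElem_mem _
      | mul_left y hy z hz ih =>
        obtain ⟨i, h, rfl⟩ := hy
        rw [permList_mul, hgen i h]
        refine memW_iff.1 (hclosed _ ih _ ?_)
        rw [List.getD_eq_getElem _ _ h]; exact List.getElem_mem _
    · intro hπ
      obtain ⟨j, hj, he⟩ := List.getElem_of_mem hπ
      obtain ⟨π', hπ', he'⟩ := hDget j hj
      rw [List.getD_eq_getElem _ _ hj, he] at he'
      exact permList_injective he' ▸ hπ'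
  have hgiv : ∀ i (h : i < gens.length), permList (ρ (gen i h))⁻¹ = ginv.getD i [] := by
    intro i h
    obtain ⟨hl', hc'⟩ := hinv i h
    have hc' := beqW_eq hc'
    refine List.ext_getElem (by rw [hl']; simp [permList]) fun a ha hb => ?_
    have ham : a < m := by simpa [permList] using ha
    set i₀ := (ρ (gen i h))⁻¹ ⟨a, ham⟩ with hi₀
    have hπi : ρ (gen i h) i₀ = ⟨a, ham⟩ := by
      rw [hi₀, Equiv.Perm.inv_def, Equiv.apply_symm_apply]
    rw [← hgen i h, ← permList_one] at hc'
    simp only [compL, permList, List.map_ofFn, List.ofFn_inj] at hc'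
    have h1 : (ginv.getD i []).getD a 0 = i₀.1 := by
      have := congrFun hc' i₀
      simpa [hπi] using this
    rw [← List.getD_eq_getElem _ 0 ha, ← List.getD_eq_getElem _ 0 hb, h1,
      permList_getD _ (⟨a, ham⟩ : Fin m), ← hi₀]
  have hDcard : Nat.card D = Dl.length := by
    let toL : D → Fin Dl.length := fun π =>
      ⟨Dl.idxOf (permList π.1), List.idxOf_lt_length_of_mem ((hDlist π.1).1 π.2)⟩
    have hbij : Function.Bijective toL := by
      constructor
      · intro a b hab
        have := congrArg (fun i : Fin Dl.length => Dl[i.1]) hab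
        simp only [toL, List.getElem_idxOf] at this
        exact Subtype.ext (permList_injective this)
      · intro j
        obtain ⟨π, hπ, he⟩ := hDget j.1 j.2
        refine ⟨⟨π, hπ⟩, Fin.ext ?_⟩
        simp only [toL, he, List.getD_eq_getElem _ _ j.2]
        exact (nodupW_iff hDnd).idxOf_getElem j.1 j.2
    rw [Nat.card_congr (Equiv.ofBijective toL hbij), Nat.card_fin]
  have hEcard : Nat.card E = L.length := by
    rw [← Nat.card_congr (Equiv.ofBijective val hval), Nat.card_fin]
  -- the Sylow subgroup
  let T₁ : Subgroup N := D.comap ρ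
  let T₀ : Subgroup G := T₁.map N.subtype
  have hT₀mem : ∀ g : G, g ∈ T₀ ↔ ∃ h : g ∈ N, ρ ⟨g, h⟩ ∈ D := fun g => by
    constructor
    · rintro ⟨⟨a, ha⟩, hD', rfl⟩
      exact ⟨ha, hD'⟩
    · rintro ⟨h, hD'⟩
      exact ⟨⟨g, h⟩, hD', rfl⟩
  have hcard₀ : Nat.card T₀ = 2 ^ (Nat.card G).factorization 2 := by
    rw [hsyl, Subgroup.card_map_of_injective N.subtype_injective, ← hEcard, ← hDcard]
    let φ : T₁ →* D := (ρ.comp T₁.subtype).codRestrict D fun a => a.2
    have hs : Function.Surjective φ := fun π => by
      obtain ⟨a, ha⟩ := hDrange π.2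
      exact ⟨⟨a, show ρ a ∈ D by rw [ha]; exact π.2⟩, Subtype.ext ha⟩
    rw [← φ.ker.card_mul_index, Subgroup.index_ker, MonoidHom.range_eq_top.2 hs, Subgroup.card_top]
    congr 1
    exact Nat.card_congr
      { toFun := fun a => ⟨((a : T₁) : G), (hker _).1 (congrArg Subtype.val a.2)⟩
        invFun := fun e => ⟨⟨⟨e.1, hEN e.1 e.2⟩,
            show ρ ⟨e.1, hEN e.1 e.2⟩ ∈ D by rw [(hker ⟨e.1, hEN e.1 e.2⟩).2 e.2]; exact one_mem D⟩,
          Subtype.ext ((hker ⟨e.1, hEN e.1 e.2⟩).2 e.2)⟩
        left_inv := fun a => rfl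
        right_inv := fun e => rfl }
  let P₀ : Sylow 2 G := Sylow.ofCard T₀ hcard₀
  -- the frame subgroup is elementary abelian
  have hprodmem : ∀ e : E, ∃ s : List ℕ, (∀ j ∈ s, tws.getD j [] ∈ tws) ∧
      (e : G) = wordVal A.x (prodWord tws s) := by
    intro e
    obtain ⟨i, rfl⟩ := hval.2 e
    exact ⟨_, (hlet _ (List.getElem_mem i.2)).2, hvaleq i⟩
  have hEcomm : ∀ a ∈ E, ∀ b ∈ E, a * b = b * a := by
    intro a ha b hb
    obtain ⟨s, hs, he⟩ := hprodmem ⟨a, ha⟩
    simp only at he
    subst he
    clear ha
    induction s with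
    | nil => simp [prodWord, wordVal]
    | cons j s ih =>
      rw [show prodWord tws (j :: s) = tws.getD j [] ++ prodWord tws s from rfl, wordVal_append]
      have h1 : Commute (wordVal A.x (tws.getD j [])) b := A.mem_cent.1 hb _ (hs j (by simp))
      exact Commute.mul_left (ih fun i hi => hs i (by simp [hi])) h1
  have hEsq : ∀ a ∈ E, a ^ 2 = 1 := by
    intro a ha
    obtain ⟨s, hs, he⟩ := hprodmem ⟨a, ha⟩
    simp only at he
    subst he
    clear ha
    induction s with
    | nil => simp [prodWord, wordVal]
    | cons j s ih =>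
      rw [show prodWord tws (j :: s) = tws.getD j [] ++ prodWord tws s from rfl, wordVal_append]
      obtain ⟨-, q, hq, -⟩ := A.frame_word hframe (hs j (by simp))
      have hcomm : Commute (wordVal A.x (prodWord tws s)) (wordVal A.x (tws.getD j [])) := by
        have ih' : ∀ u : List ℕ, (∀ i ∈ u, tws.getD i [] ∈ tws) →
            Commute (wordVal A.x (prodWord tws u)) (wordVal A.x (tws.getD j [])) := by
          intro u
          induction u with
          | nil => intro _; simp [prodWord, wordVal]
          | cons i u ih2 =>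
            intro hu
            rw [show prodWord tws (i :: u) = tws.getD i [] ++ prodWord tws u from rfl, wordVal_append]
            exact Commute.mul_left (ih2 fun l hl => hu l (by simp [hl]))
              (A.frame_commute hframe (hu i (by simp)) (hs j (by simp)))
        exact ih' s fun l hl => hs l (by simp [hl])
      rw [hcomm.mul_pow, ih (fun i hi => hs i (by simp [hi])), one_mul, ← hq]
      obtain ⟨c, rfl⟩ := A.trans q
      rw [A.delta_move, conj_pow, pow_two, hd2, mul_one, mul_inv_cancel]
  have hET : E ≤ T₀ := fun g hg => (hT₀mem g).2 ⟨hEN g hg, by rw [(hker _).2 hg]; exact one_mem D⟩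
  have hEnormal : (E.subgroupOf T₀).Normal := ⟨fun e he t => by
    rw [Subgroup.mem_subgroupOf] at he ⊢
    obtain ⟨ht, -⟩ := (hT₀mem t.1).1 t.2
    have := (hker (⟨t.1, ht⟩ * ⟨e.1, hEN _ he⟩ * ⟨t.1, ht⟩⁻¹)).1 (by
      rw [map_mul, map_mul, map_inv, (hker ⟨e.1, hEN _ he⟩).2 he, mul_one, mul_inv_cancel])
    exact this⟩
  have hEelem : Cfsg.IsElementaryAbelian 2 E :=
    ⟨⟨⟨fun a b => Subtype.ext (hEcomm a.1 a.2 b.1 b.2)⟩⟩, hEsq⟩
  -- the bound above the Sylow subgroup
  have hmain : ∀ V : Subgroup G, V ≤ T₀ → (V.subgroupOf T₀).Normal → Cfsg.IsElementaryAbelian 2 V →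
      Nat.card V ≤ L.length ∧ (Nat.card V = L.length → V = E) := by
    intro V hV hVn hVe
    let VN : Subgroup N := V.comap N.subtype
    let W : Subgroup (Equiv.Perm (Fin m)) := VN.map ρ
    have hVN : ∀ g ∈ V, g ∈ N := fun g hg => ((hT₀mem g).1 (hV hg)).1
    have hVcomm : ∀ a ∈ V, ∀ b ∈ V, a * b = b * a := fun a ha b hb =>
      congrArg Subtype.val (hVe.1.is_comm.comm (⟨a, ha⟩ : V) ⟨b, hb⟩)
    have hWD : W ≤ D := by
      rintro _ ⟨a, ha, rfl⟩
      obtain ⟨h, hD'⟩ := (hT₀mem a.1).1 (hV ha)
      exact hD'
    have hWconj : ∀ d ∈ D, ∀ π ∈ W, d * π * d⁻¹ ∈ W := by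
      rintro d hd _ ⟨a, ha, rfl⟩
      obtain ⟨b, rfl⟩ := hDrange hd
      refine ⟨b * a * b⁻¹, ?_, by rw [map_mul, map_mul, map_inv]⟩
      have hb : b.1 ∈ T₀ := (hT₀mem _).2 ⟨b.2, hd⟩
      exact hVn.conj_mem ⟨a.1, hV ha⟩ ha ⟨b.1, hb⟩
    simp only [growAllOK, Bool.and_eq_true, List.all_eq_true, List.mem_range, Bool.or_eq_true] at hgrow
    obtain ⟨hws, hcover⟩ := hgrow
    classical
    let P : List ℕ → Prop := fun x => ∃ π ∈ W, permList π = x
    let S := (Finset.range Bs.length).filter fun b => ∀ x ∈ Bs.getD b [], P x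
    have hS : S.Nonempty := ⟨0, Finset.mem_filter.2 ⟨Finset.mem_range.2 hBpos, by
      intro x hx
      rw [hB0, List.mem_singleton] at hx
      exact ⟨1, one_mem _, by rw [hx, permList_one]⟩⟩⟩
    obtain ⟨b, hb, hbmax⟩ := S.exists_max_image (fun b => (Bs.getD b []).length) hS
    obtain ⟨hblt, hbP⟩ := Finset.mem_filter.1 hb
    rw [Finset.mem_range] at hblt
    have hWB : ∀ π ∈ W, permList π ∈ Bs.getD b [] := by
      intro π hπ
      by_contra hnot
      obtain ⟨x, hx, he⟩ := List.getElem_of_mem ((hDlist π).1 (hWD hπ))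
      rw [← List.getD_eq_getElem _ [] hx] at he
      rcases hcover b hblt x hx with (h | h) | h
      · rw [he, memW_iff] at h
        exact hnot h
      · rw [he, Bool.not_eq_true', ← permList_mul, ← Bool.not_eq_true] at h
        apply h
        have hsq : π * π = 1 := by
          obtain ⟨a, ha, rfl⟩ := hπ
          rw [← map_mul, ← map_one ρ]
          exact congrArg ρ (Subtype.ext (by
            show a.1 * a.1 = 1
            rw [← pow_two]; exact hVe.2 _ ha))
        rw [hsq, permList_one]
        exact memW_iff.beqW_self _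
      · rw [List.any_eq_true] at h
        obtain ⟨w, hw, hwb⟩ := h
        rw [Bool.and_eq_true, Nat.beq_eq, Nat.beq_eq] at hwb
        have hok := hws w hw
        rw [growOK, hwb.1, hwb.2] at hok
        have hknown : ∀ (ops : List Deriv) (known : List (List ℕ)), (∀ y ∈ known, P y) →
            ∀ y ∈ derive gens ginv known ops, P y := by
          intro ops
          induction ops with
          | nil => intro known h y hy; exact h y hy
          | cons op ops ih =>
            intro known h
            cases op with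
            | mul i j =>
              rw [derive]
              refine ih _ ?_
              cases hc' : (Nat.blt i known.length && Nat.blt j known.length)
              · exact h
              · simp only [Bool.and_eq_true, Nat.blt_eq] at hc'
                intro y hy
                rcases List.mem_append.1 hy with hy | hy
                · exact h y hy
                · rw [List.mem_singleton] at hy
                  obtain ⟨u, hu, hue⟩ := h (known.getD i [])
                    (by rw [List.getD_eq_getElem _ _ hc'.1]; exact List.getElem_mem _)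
                  obtain ⟨v, hv, hve⟩ := h (known.getD j [])
                    (by rw [List.getD_eq_getElem _ _ hc'.2]; exact List.getElem_mem _)
                  exact ⟨u * v, mul_mem hu hv, by rw [hy, permList_mul, hue, hve]⟩
            | conj i g =>
              rw [derive]
              refine ih _ ?_
              cases hc' : (Nat.blt i known.length && Nat.blt g gens.length)
              · exact h
              · simp only [Bool.and_eq_true, Nat.blt_eq] at hc'
                intro y hy
                rcases List.mem_append.1 hy with hy | hy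
                · exact h y hy
                · rw [List.mem_singleton] at hy
                  obtain ⟨u, hu, hue⟩ := h (known.getD i [])
                    (by rw [List.getD_eq_getElem _ _ hc'.1]; exact List.getElem_mem _)
                  refine ⟨_, hWconj _ (Subgroup.subset_closure ⟨g, hc'.2, rfl⟩) u hu, ?_⟩
                  rw [hy, mul_assoc, permList_mul, permList_mul, hue, hgen g hc'.2, hgiv g hc'.2]
        have hk := hknown w.ops (Bs.getD b [] ++ [Dl.getD x []]) (by
          intro y hy
          rcases List.mem_append.1 hy with hy | hy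
          · exact hbP y hy
          · rw [List.mem_singleton] at hy
            exact ⟨π, hπ, by rw [hy, he]⟩)
        cases hsup : w.sup with
        | some c =>
          simp only [hsup, Bool.and_eq_true, Nat.blt_eq, List.all_eq_true, and_assoc] at hok
          obtain ⟨hc1, hc2, hc3⟩ := hok
          have hcS : c ∈ S := Finset.mem_filter.2 ⟨Finset.mem_range.2 hc1, fun y hy =>
            hk y (memW_iff.1 (hc3 y hy))⟩
          exact absurd (hbmax c hcS) (by omega)
        | none =>
          simp only [hsup, Bool.and_eq_true, Nat.blt_eq, Bool.not_eq_true', and_assoc] at hok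
          obtain ⟨hp1, hq1, hne⟩ := hok
          set known := derive gens ginv (Bs.getD b [] ++ [Dl.getD x []]) w.ops
          obtain ⟨u, ⟨a, ha, hau⟩, hue⟩ := hk (known.getD w.p [])
            (by rw [List.getD_eq_getElem _ _ hp1]; exact List.getElem_mem _)
          obtain ⟨v, ⟨a', ha', hav⟩, hve⟩ := hk (known.getD w.q [])
            (by rw [List.getD_eq_getElem _ _ hq1]; exact List.getElem_mem _)
          rw [← hue, ← hve, ← permList_mul, ← permList_mul,
            show u * v = v * u by rw [← hau, ← hav, ← map_mul, ← map_mul,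
              show a * a' = a' * a from Subtype.ext (hVcomm _ ha _ ha')],
            memW_iff.beqW_self] at hne
          exact Bool.noConfusion hne
    have hWcard : Nat.card W ≤ (Bs.getD b []).length := by
      let inc : W → {x // x ∈ (Bs.getD b []).toFinset} := fun π =>
        ⟨permList π.1, List.mem_toFinset.2 (hWB π.1 π.2)⟩
      calc Nat.card W ≤ Nat.card {x // x ∈ (Bs.getD b []).toFinset} :=
            Nat.card_le_card_of_injective inc fun u v huv =>
              Subtype.ext (permList_injective (congrArg Subtype.val huv))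
        _ ≤ _ := by rw [Nat.card_eq_fintype_card, Fintype.card_coe]; exact List.toFinset_card_le _
    have hsplit : Nat.card V = Nat.card (V ⊓ E : Subgroup G) * Nat.card W := by
      let φ : VN →* W := (ρ.comp VN.subtype).codRestrict W fun a => ⟨a.1, a.2, rfl⟩
      have hs : Function.Surjective φ := by
        rintro ⟨_, a, ha, rfl⟩
        exact ⟨⟨a, ha⟩, rfl⟩
      have h1 : Nat.card V = Nat.card VN := Nat.card_congr
        { toFun := fun v => ⟨⟨v.1, hVN v.1 v.2⟩, v.2⟩
          invFun := fun v => ⟨v.1.1, v.2⟩
          left_inv := fun v => rfl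
          right_inv := fun v => rfl }
      have h2 : Nat.card φ.ker = Nat.card (V ⊓ E : Subgroup G) := Nat.card_congr
        { toFun := fun a => ⟨((a : VN) : G), (a : VN).2, (hker _).1 (congrArg Subtype.val a.2)⟩
          invFun := fun e => ⟨⟨⟨e.1, hVN e.1 e.2.1⟩, e.2.1⟩,
            Subtype.ext ((hker ⟨e.1, hVN e.1 e.2.1⟩).2 e.2.2)⟩
          left_inv := fun a => rfl
          right_inv := fun e => rfl }
      rw [h1, ← φ.ker.card_mul_index, Subgroup.index_ker, MonoidHom.range_eq_top.2 hs,
        Subgroup.card_top, h2]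
    by_cases hb0 : b = 0
    · have hVE : V ≤ E := by
        intro g hg
        have h1 : permList (ρ ⟨g, hVN g hg⟩) ∈ Bs.getD b [] :=
          hWB _ ⟨⟨g, hVN g hg⟩, hg, rfl⟩
        rw [hb0, hB0, List.mem_singleton, ← permList_one] at h1
        exact (hker _).1 (permList_injective h1)
      exact ⟨(Subgroup.card_le_of_le hVE).trans hEcard.le, fun h =>
        Subgroup.eq_of_le_of_card_ge hVE (hEcard.le.trans h.ge)⟩
    · have hbd := hbound b hblt hb0
      simp only [boundOK, Bool.and_eq_true, List.all_eq_true, Nat.blt_eq] at hbd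
      obtain ⟨hsel, hlt'⟩ := hbd
      set us := (sel.getD b []).map (·.2)
      have hle : Nat.card (V ⊓ E : Subgroup G) ≤
          fixCountEntries A.Z A.k tws ps us L := by
        choose idx hidx using fun e : E => hval.2 e
        let inc : (V ⊓ E : Subgroup G) → {c // c ∈ ((L.filter (fixEntry A.Z A.k tws ps us)).map Entry.code).toFinset} :=
          fun e => ⟨L[(idx ⟨e.1, e.2.2⟩).1].code, List.mem_toFinset.2 (List.mem_map.2
            ⟨_, List.mem_filter.2 ⟨List.getElem_mem _, ?_⟩, rfl⟩)⟩
        · rw [fixCountEntries, List.countP_eq_length_filter]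
          calc Nat.card (V ⊓ E : Subgroup G) ≤ _ := Nat.card_le_card_of_injective inc fun u v huv => by
                have hnd' : (L.map Entry.code).Nodup := (incB_pairwise hinc).imp fun h => Nat.ne_of_lt h
                have h3 := congrArg Subtype.val huv
                have h4 : idx ⟨u.1, u.2.2⟩ = idx ⟨v.1, v.2.2⟩ := Fin.ext
                  ((hnd'.getElem_inj_iff (hi := by simp) (hj := by simp)).1 (by simpa [inc] using h3))
                have h5 := (hidx ⟨u.1, u.2.2⟩).symm.trans ((congrArg val h4).trans (hidx ⟨v.1, v.2.2⟩))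
                exact Subtype.ext (congrArg (fun z : E => (z : G)) h5)
            _ ≤ ((L.filter (fixEntry A.Z A.k tws ps us)).map Entry.code).length := by
              rw [Nat.card_eq_fintype_card, Fintype.card_coe]; exact List.toFinset_card_le _
            _ = _ := List.length_map ..
        simp only [fixEntry, us, List.all_map, List.all_eq_true, Function.comp_apply, Nat.beq_eq]
        intro ev hev p hp
        obtain ⟨hi', hlok⟩ := hsel ev hev
        simp only [liftOK, Bool.and_eq_true, List.all_eq_true, List.mem_range, Nat.blt_eq, Nat.beq_eq,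
          and_assoc] at hlok
        obtain ⟨hw', hglen', himg⟩ := hlok
        obtain ⟨π, ⟨a, ha, hau⟩, hπe⟩ := hbP ((Bs.getD b []).getD ev.1 [])
          (by rw [List.getD_eq_getElem _ _ hi']; exact List.getElem_mem _)
        set e' : E := ⟨e.1, e.2.2⟩
        have hsame : (a : G)⁻¹ * wordVal A.x ev.2 ∈ E := by
          rw [hfix]
          intro i
          rw [map_mul, map_inv, Equiv.Perm.mul_apply, Equiv.Perm.inv_def, Equiv.symm_apply_eq]
          obtain ⟨h1, h2⟩ := himg i.1 (by rw [hm]; exact i.2)
          have h3 : A.f (wordVal A.x ev.2) (fpt i) = fpt ⟨_, by rw [hm] at h1; exact h1⟩ :=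
            Fin.ext (by rw [A.walk_apply hw']; exact h2)
          rw [h3, ← hρ a, hau]
          exact congrArg fpt (Fin.ext (by
            show ((Bs.getD b []).getD ev.1 []).getD i.1 0 = _
            rw [← hπe, permList_getD]))
        have hcw : (e.1 : G) * wordVal A.x ev.2 = wordVal A.x ev.2 * e.1 := by
          have h1 := hVcomm e.1 e.2.1 a.1 ha
          have h2 := hEcomm e.1 e.2.2 _ hsame
          calc (e.1 : G) * wordVal A.x ev.2 = e.1 * (a : G) * ((a : G)⁻¹ * wordVal A.x ev.2) := by group
            _ = (a : G) * (e.1 * ((a : G)⁻¹ * wordVal A.x ev.2)) := by rw [h1]; group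
            _ = wordVal A.x ev.2 * e.1 := by rw [h2]; group
        have hv := congrArg (fun z : E => (z : G)) (hidx e')
        rw [hvaleq] at hv
        have hlp := (hlet _ (List.getElem_mem (idx e').2)).1
        have hp' : p < n := hps p hp
        have app : ∀ {u v : List ℕ}, (∀ g ∈ u, g < A.k) → (∀ g ∈ v, g < A.k) →
            ∀ g ∈ u ++ v, g < A.k := fun hu hv g hg => (List.mem_append.1 hg).elim (hu g) (hv g)
        rw [← A.walk_apply (app hlp hw') ⟨p, hp'⟩, ← A.walk_apply (app hw' hlp) ⟨p, hp'⟩,
          wordVal_append, wordVal_append, hv, hcw]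
      have hlt2 : Nat.card V < L.length := by
        rw [hsplit]
        calc Nat.card (V ⊓ E : Subgroup G) * Nat.card W
            ≤ fixCountEntries A.Z A.k tws ps us L * (Bs.getD b []).length := Nat.mul_le_mul hle hWcard
          _ < L.length := by rw [mul_comm]; exact hlt'
      exact ⟨hlt2.le, fun h => absurd h (by omega)⟩
  -- transport to the given Sylow subgroup
  obtain ⟨g, hg⟩ := MulAction.exists_smul_eq G P₀ T
  let c : G ≃* G := MulAut.conj g
  have hT : (T : Subgroup G) = T₀.map c.toMonoidHom := by rw [← hg]; rfl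
  have htrans : ∀ (e : G ≃* G) (X Y V : Subgroup G), Y = X.map e.toMonoidHom → V ≤ Y →
      (V.subgroupOf Y).Normal → Cfsg.IsElementaryAbelian 2 V →
      V.map e.symm.toMonoidHom ≤ X ∧ ((V.map e.symm.toMonoidHom).subgroupOf X).Normal ∧
        Cfsg.IsElementaryAbelian 2 (V.map e.symm.toMonoidHom) := by
    intro e X Y V hY h1 h2 h3
    refine ⟨?_, ⟨fun u hu x => ?_⟩, ⟨⟨?_⟩⟩, ?_⟩
    · rintro _ ⟨v, hv, rfl⟩
      obtain ⟨x, hx, rfl⟩ := hY ▸ h1 hv
      simpa using hx
    · rw [Subgroup.mem_subgroupOf, Subgroup.mem_map_equiv] at hu ⊢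
      have hxY : e x.1 ∈ Y := hY ▸ ⟨x.1, x.2, rfl⟩
      have := h2.conj_mem ⟨_, h1 hu⟩ hu ⟨_, hxY⟩
      rw [Subgroup.mem_subgroupOf] at this
      simpa using this
    · rintro ⟨_, a, ha, rfl⟩ ⟨_, b, hb, rfl⟩
      refine Subtype.ext ?_
      have := congrArg Subtype.val (h3.1.is_comm.comm (⟨a, ha⟩ : V) ⟨b, hb⟩)
      show e.symm a * e.symm b = e.symm b * e.symm a
      rw [← map_mul, ← map_mul]
      exact congrArg e.symm this
    · rintro _ ⟨a, ha, rfl⟩
      rw [← map_pow, h3.2 a ha, map_one]
  have hcardmap : ∀ (e : G ≃* G) (V : Subgroup G), Nat.card (V.map e.toMonoidHom) = Nat.card V :=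
    fun e V => Subgroup.card_map_of_injective e.injective
  refine ⟨fun V h1 h2 h3 => ?_, E.map c.toMonoidHom, ?_, ?_⟩
  · obtain ⟨h1', h2', h3'⟩ := htrans c T₀ T V hT h1 h2 h3
    have := (hmain _ h1' h2' h3').1
    rwa [hcardmap] at this
  · have hT' : T₀ = (T : Subgroup G).map c.symm.toMonoidHom := by
      rw [hT, Subgroup.map_map]
      exact (Subgroup.map_id T₀).symm.trans (congrArg (fun z => T₀.map z) (MonoidHom.ext fun u => by simp))
    obtain ⟨h1', h2', h3'⟩ := htrans c.symm T T₀ E hT' hET hEnormal hEelem
    rw [MulEquiv.symm_symm] at h1' h2' h3'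
    exact ⟨h1', h2', h3', by rw [hcardmap, hEcard]⟩
  · rintro V ⟨h1, h2, h3, h4⟩
    obtain ⟨h1', h2', h3'⟩ := htrans c T₀ T V hT h1 h2 h3
    have := (hmain _ h1' h2' h3').2 (by rw [hcardmap, h4])
    rw [← this, Subgroup.map_map]
    exact ((congrArg (fun z => V.map z) (MonoidHom.ext fun u => by simp)).trans (Subgroup.map_id V)).symm

end TransTable

end Cfsg.Lib.CosetEnum
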