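import Cfsg.Agent.Lib.CosetEnum.Trans.Lifts

/-!
# Lifts of a class of involutions to central extensions

If the centraliser of an involution is perfect, the class of the involution lifts to a class of involutions
in a central extension enlarged by a square root of the square of one lift.
-/

set_option autoImplicit false

open scoped commutatorElement

namespace Cfsg.Lib.CosetEnum

/-- Lifts of the conjugates of `d` that are involutions and are permuted like them. -/
structure ClassLifts {G Q : Type*} [Group G] [Group Q] (π : Q →* G) (d : G) where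
  /-- The lift of a conjugate. -/
  Y : G → Q
  proj : ∀ a, IsConj d a → π (Y a) = a
  sq : ∀ a, IsConj d a → Y a * Y a = 1
  conj : ∀ a b, IsConj d a → IsConj d b → Y a * Y b * Y a = Y (a * b * a)

variable {G : Type} [Group G]

/-- A preimage of an element with perfect centraliser commutes with everything over the centraliser. -/
theorem fix_of_perfect {E : Type*} [Group E] {σ : E →* G} (hσ : Function.Surjective σ)
    (hker : σ.ker ≤ Subgroup.center E) {d : G} {x₀ : E} (hx₀ : σ x₀ = d)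
    (hperf : Subgroup.centralizer ({d} : Set G) ≤
      ⁅Subgroup.centralizer ({d} : Set G), Subgroup.centralizer ({d} : Set G)⁆) :
    ∀ a : E, σ a ∈ Subgroup.centralizer ({d} : Set G) → a * x₀ = x₀ * a := by
  set C := Subgroup.centralizer ({d} : Set G)
  -- the twist of a preimage of the centraliser is a central character, so it kills commutators
  have hζ : ∀ a ∈ C.comap σ, a * x₀ * a⁻¹ * x₀⁻¹ ∈ Subgroup.center E := fun a ha => hker (by
    rw [MonoidHom.mem_ker, map_mul, map_mul, map_mul, map_inv, map_inv, hx₀,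
      Subgroup.mem_centralizer_singleton_iff.1 ha, mul_inv_cancel_right, mul_inv_cancel])
  let χ : ↥(C.comap σ) →* Subgroup.center E :=
    { toFun := fun a => ⟨_, hζ a.1 a.2⟩
      map_one' := Subtype.ext (by simp)
      map_mul' := fun a b => Subtype.ext (by
        show a.1 * b.1 * x₀ * (a.1 * b.1)⁻¹ * x₀⁻¹ =
          (a.1 * x₀ * a.1⁻¹ * x₀⁻¹) * (b.1 * x₀ * b.1⁻¹ * x₀⁻¹)
        have hz := Subgroup.mem_center_iff.1 (hζ b.1 b.2)
        calc a.1 * b.1 * x₀ * (a.1 * b.1)⁻¹ * x₀⁻¹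
            = a.1 * (b.1 * x₀ * b.1⁻¹ * x₀⁻¹) * (x₀ * a.1⁻¹ * x₀⁻¹) := by group
          _ = (b.1 * x₀ * b.1⁻¹ * x₀⁻¹) * a.1 * (x₀ * a.1⁻¹ * x₀⁻¹) := by rw [hz a.1]
          _ = (b.1 * x₀ * b.1⁻¹ * x₀⁻¹) * (a.1 * x₀ * a.1⁻¹ * x₀⁻¹) := by group
          _ = (a.1 * x₀ * a.1⁻¹ * x₀⁻¹) * (b.1 * x₀ * b.1⁻¹ * x₀⁻¹) := (hz _).symm) }
  have hK : ∀ k ∈ ⁅C.comap σ, C.comap σ⁆, k * x₀ = x₀ * k := by
    intro k hk
    have hle : ⁅C.comap σ, C.comap σ⁆ ≤ χ.ker.map (C.comap σ).subtype := by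
      rw [Subgroup.commutator_le]
      intro a ha b hb
      refine ⟨⁅(⟨a, ha⟩ : ↥(C.comap σ)), ⟨b, hb⟩⁆, ?_, rfl⟩
      rw [SetLike.mem_coe, MonoidHom.mem_ker, map_commutatorElement, commutatorElement_eq_one_iff_mul_comm]
      exact Subtype.ext ((Subgroup.mem_center_iff.1 (χ ⟨a, ha⟩).2 _).symm)
    obtain ⟨a, ha, rfl⟩ := hle hk
    have h : a.1 * x₀ * a.1⁻¹ * x₀⁻¹ = 1 := congrArg Subtype.val (MonoidHom.mem_ker.1 ha)
    rwa [mul_inv_eq_one, mul_inv_eq_iff_eq_mul] at h
  intro a ha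
  have h1 : σ a ∈ (⁅C.comap σ, C.comap σ⁆).map σ := by
    rw [Subgroup.map_commutator, Subgroup.map_comap_eq_self_of_surjective hσ]
    exact hperf ha
  obtain ⟨c, hc, hca⟩ := h1
  have hz := Subgroup.mem_center_iff.1 (hker (show c⁻¹ * a ∈ σ.ker by
    rw [MonoidHom.mem_ker, map_mul, map_inv, hca, inv_mul_cancel])) x₀
  calc a * x₀ = c * ((c⁻¹ * a) * x₀) := by group
    _ = c * x₀ * (c⁻¹ * a) := by rw [← hz, mul_assoc]
    _ = x₀ * c * (c⁻¹ * a) := by rw [hK c hc]
    _ = x₀ * a := by group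

/-- The lifts exist in a central extension enlarged by a square root of the square of one lift. -/
theorem exists_classLifts {E : Type} [Group E] {σ : E →* G} (hσ : Function.Surjective σ)
    (hker : σ.ker ≤ Subgroup.center E) {d : G} (hd2 : d * d = 1)
    (hperf : Subgroup.centralizer ({d} : Set G) ≤
      ⁅Subgroup.centralizer ({d} : Set G), Subgroup.centralizer ({d} : Set G)⁆) :
    ∃ (Q : Type) (_ : Group Q) (π : Q →* G) (ι : E →* Q), π.ker ≤ Subgroup.center Q ∧
      Function.Injective ι ∧ π.comp ι = σ ∧ Nonempty (ClassLifts π d) := by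
  classical
  obtain ⟨x₀, hx₀⟩ := hσ d
  let X : G → E := fun a =>
    if h : ∃ e, σ e * d * (σ e)⁻¹ = a then h.choose * x₀ * h.choose⁻¹ else 1
  have hX : ∀ e : E, X (σ e * d * (σ e)⁻¹) = e * x₀ * e⁻¹ := by
    intro e
    have h : ∃ c, σ c * d * (σ c)⁻¹ = σ e * d * (σ e)⁻¹ := ⟨e, rfl⟩
    simp only [X, dif_pos h]
    have hc := h.choose_spec
    generalize h.choose = c at hc ⊢
    have hmem : σ (c⁻¹ * e) ∈ Subgroup.centralizer ({d} : Set G) := by
      rw [Subgroup.mem_centralizer_singleton_iff, map_mul, map_inv]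
      calc (σ c)⁻¹ * σ e * d = (σ c)⁻¹ * (σ e * d * (σ e)⁻¹) * σ e := by group
        _ = (σ c)⁻¹ * (σ c * d * (σ c)⁻¹) * σ e := by rw [hc]
        _ = d * ((σ c)⁻¹ * σ e) := by group
    have := fix_of_perfect hσ hker hx₀ hperf _ hmem
    calc c * x₀ * c⁻¹ = c * (x₀ * (c⁻¹ * e)) * e⁻¹ := by group
      _ = e * x₀ * e⁻¹ := by rw [← this]; group
  have hlift : ∀ a, IsConj d a → ∃ e, σ e * d * (σ e)⁻¹ = a := by
    intro a ha
    obtain ⟨g, hg⟩ := isConj_iff.1 ha
    obtain ⟨e, rfl⟩ := hσ g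
    exact ⟨e, hg⟩
  have hXσ : ∀ a, IsConj d a → σ (X a) = a := by
    intro a ha
    obtain ⟨e, rfl⟩ := hlift a ha
    rw [hX, map_mul, map_mul, map_inv, hx₀]
  have hz : ∀ e, σ e = 1 → ∀ a : E, a * e = e * a := fun e he a =>
    Subgroup.mem_center_iff.1 (hker he) a
  set z := x₀ * x₀
  have hzker : σ z = 1 := by rw [map_mul, hx₀, hd2]
  have hXsq : ∀ a, IsConj d a → X a * X a = z := by
    intro a ha
    obtain ⟨e, rfl⟩ := hlift a ha
    rw [hX]
    calc e * x₀ * e⁻¹ * (e * x₀ * e⁻¹) = e * z * e⁻¹ := by simp only [z]; group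
      _ = z := by rw [hz z hzker, mul_inv_cancel_right]
  let w : E × Multiplicative ℤ := (z, Multiplicative.ofAdd (-2))
  have hwc : w ∈ Subgroup.center (E × Multiplicative ℤ) := by
    rw [Subgroup.mem_center_iff]
    exact fun u => Prod.ext (hz z hzker u.1) (mul_comm _ _)
  let N := Subgroup.zpowers w
  have hNc : N ≤ Subgroup.center (E × Multiplicative ℤ) := by rwa [Subgroup.zpowers_le]
  have : N.Normal := ⟨fun u hu v => by
    rw [Subgroup.mem_center_iff.1 (hNc hu) v, mul_inv_cancel_right]; exact hu⟩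
  let π : (E × Multiplicative ℤ) ⧸ N →* G := QuotientGroup.lift N (σ.comp (MonoidHom.fst _ _))
    (by rw [Subgroup.zpowers_le]; exact hzker)
  let mk' := QuotientGroup.mk' N
  let ι : E →* (E × Multiplicative ℤ) ⧸ N := mk'.comp (MonoidHom.inl _ _)
  refine ⟨_, inferInstance, π, ι, ?_, ?_, ?_, ⟨⟨fun a => mk' (X a, Multiplicative.ofAdd (-1)),
    fun a ha => ?_, fun a ha => ?_, fun a b ha hb => ?_⟩⟩⟩
  · intro u hu
    obtain ⟨⟨e, c⟩, rfl⟩ := QuotientGroup.mk'_surjective N u
    rw [Subgroup.mem_center_iff]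
    intro v
    obtain ⟨v, rfl⟩ := QuotientGroup.mk'_surjective N v
    rw [← map_mul, ← map_mul]
    exact congrArg mk' (Prod.ext (hz e hu v.1) (mul_comm _ _))
  · refine (injective_iff_map_eq_one ι).2 fun e he => ?_
    obtain ⟨j, hj⟩ := Subgroup.mem_zpowers_iff.1 ((QuotientGroup.eq_one_iff _).1 he)
    have h2 := congrArg (fun u : E × Multiplicative ℤ => Multiplicative.toAdd u.2) hj
    simp only [w, Prod.pow_snd, toAdd_zpow, toAdd_ofAdd, MonoidHom.inl_apply, toAdd_one,
      smul_eq_mul, mul_eq_zero] at h2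
    have h1 := congrArg Prod.fst hj
    simp only [w, Prod.pow_fst, MonoidHom.inl_apply] at h1
    rw [← h1, show j = 0 by omega, zpow_zero]
  · ext e; rfl
  · exact hXσ a ha
  · rw [← map_mul]
    refine (QuotientGroup.eq_one_iff _).2 ?_
    have : (X a, Multiplicative.ofAdd (-1 : ℤ)) * (X a, Multiplicative.ofAdd (-1 : ℤ)) = w :=
      Prod.ext (hXsq a ha) rfl
    rw [this]
    exact Subgroup.mem_zpowers w
  · rw [← map_mul, ← map_mul]
    refine QuotientGroup.eq.2 ?_
    have hX2 : X (a * b * a) = X a * X b * (X a)⁻¹ := by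
      obtain ⟨e, rfl⟩ := hlift b hb
      have hainv : a⁻¹ = a := by
        obtain ⟨g, rfl⟩ := isConj_iff.1 ha
        rw [mul_inv_rev, mul_inv_rev, inv_inv, inv_eq_of_mul_eq_one_left hd2, mul_assoc]
      have := hX (X a * e)
      rw [map_mul, hXσ a ha, mul_inv_rev] at this
      rw [hX e, show X a * (e * x₀ * e⁻¹) * (X a)⁻¹ = X a * e * x₀ * (X a * e)⁻¹ by group, ← this]
      congr 1
      conv_lhs => enter [2]; rw [← hainv]
      group
    have hX3 : X a = z * (X a)⁻¹ := eq_mul_inv_of_mul_eq (hXsq a ha)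
    have : ((X a, Multiplicative.ofAdd (-1 : ℤ)) * (X b, Multiplicative.ofAdd (-1 : ℤ)) *
        (X a, Multiplicative.ofAdd (-1 : ℤ)))⁻¹ *
        (X (a * b * a), Multiplicative.ofAdd (-1 : ℤ)) = w⁻¹ := by
      refine Prod.ext ?_ rfl
      show (X a * X b * X a)⁻¹ * X (a * b * a) = z⁻¹
      rw [hX2]
      nth_rewrite 2 [hX3]
      group
      rw [← hXsq a ha]
      group
    rw [this]
    exact inv_mem (Subgroup.mem_zpowers w)

/-- A section over the base makes the kernel of a stem extension trivial. -/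
theorem stem_ker_eq_bot_of_section {E Q : Type*} [Group E] [Group Q] {σ : E →* G}
    (hcomm : σ.ker ≤ commutator E) {π : Q →* G} (hπ : π.ker ≤ Subgroup.center Q) {ι : E →* Q}
    (hι : Function.Injective ι) (hcomp : π.comp ι = σ) (s : G →* Q)
    (hπs : π.comp s = MonoidHom.id G) : σ.ker = ⊥ := by
  have hcs : commutator Q ≤ s.range := by
    rw [commutator_def, Subgroup.commutator_le]
    intro a _ b _
    refine ⟨⁅π a, π b⁆, ?_⟩
    rw [map_commutatorElement]
    have hdec : ∀ q : Q, ∀ u : Q, u * (q⁻¹ * s (π q)) = q⁻¹ * s (π q) * u := by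
      intro q u
      refine Subgroup.mem_center_iff.1 (hπ ?_) u
      rw [MonoidHom.mem_ker, map_mul, map_inv,
        show π (s (π q)) = π q from DFunLike.congr_fun hπs (π q), inv_mul_cancel]
    generalize hu : a⁻¹ * s (π a) = u
    generalize hv : b⁻¹ * s (π b) = v
    have ea : s (π a) = a * u := by rw [← hu]; group
    have eb : s (π b) = b * v := by rw [← hv]; group
    have cu := fun t => hu ▸ hdec a t
    have cv := fun t => hv ▸ hdec b t
    rw [ea, eb, commutatorElement_def, commutatorElement_def, mul_inv_rev, mul_inv_rev]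
    calc a * u * (b * v) * (u⁻¹ * a⁻¹) * (v⁻¹ * b⁻¹)
        = a * (u * (b * v)) * u⁻¹ * a⁻¹ * v⁻¹ * b⁻¹ := by group
      _ = a * b * (v * a⁻¹) * v⁻¹ * b⁻¹ := by rw [← cu]; group
      _ = a * b * a⁻¹ * b⁻¹ := by rw [← cv]; group
  rw [eq_bot_iff]
  intro e he
  have h1 : ι e ∈ commutator Q := by
    have : (commutator E).map ι ≤ commutator Q := by
      rw [commutator_def, Subgroup.map_commutator, commutator_def]
      exact Subgroup.commutator_mono le_top le_top
    exact this ⟨e, hcomm he, rfl⟩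
  obtain ⟨a, ha⟩ := hcs h1
  have h2 : a = 1 := by
    have := congrArg π ha
    rw [show π (s a) = a from DFunLike.congr_fun hπs a,
      show π (ι e) = σ e from DFunLike.congr_fun hcomp e, MonoidHom.mem_ker.1 he] at this
    exact this
  rw [Subgroup.mem_bot]
  refine hι ?_
  rw [← ha, h2, map_one, map_one]

end Cfsg.Lib.CosetEnum
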