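import Cfsg.Agent.Lib.CosetEnum.Trans.ClassLifts
import Cfsg.Agent.Lib.CosetEnum.Trans.StemBound

/-!
# The kernel against the derived subgroup, from a section modulo a subgroup
-/

set_option autoImplicit false

open scoped commutatorElement

namespace Cfsg.Lib.CosetEnum

/-- A section modulo a central subgroup bounds the kernel inside the derived subgroup. -/
theorem ker_commutator_le_of_section {G Q : Type*} [Group G] [Group Q] {π : Q →* G}
    (hπ : π.ker ≤ Subgroup.center Q) {K : Subgroup Q} [K.Normal] (hK : K ≤ π.ker) (s : G →* Q ⧸ K)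
    (hs : (QuotientGroup.lift K π hK).comp s = MonoidHom.id G) : π.ker ⊓ commutator Q ≤ K := by
  let m := QuotientGroup.mk' K
  let π' : Q ⧸ K →* G := QuotientGroup.lift K π hK
  have hπs : ∀ a, π' (s a) = a := fun a => DFunLike.congr_fun hs a
  have hcs : commutator Q ≤ s.range.comap m := by
    rw [commutator_def, Subgroup.commutator_le]
    intro a _ b _
    refine ⟨⁅π a, π b⁆, ?_⟩
    rw [map_commutatorElement, map_commutatorElement]
    have hdec : ∀ q : Q, ∀ u : Q ⧸ K, u * ((m q)⁻¹ * s (π q)) = (m q)⁻¹ * s (π q) * u := by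
      intro q u
      obtain ⟨u, rfl⟩ := QuotientGroup.mk'_surjective K u
      obtain ⟨z, hz⟩ := QuotientGroup.mk'_surjective K ((m q)⁻¹ * s (π q))
      have hzk : π z = 1 := by
        have := congrArg π' hz
        rw [map_mul, map_inv, hπs, show π' (m q) = π q from rfl, inv_mul_cancel] at this
        exact this
      rw [← hz, ← map_mul, ← map_mul, Subgroup.mem_center_iff.1 (hπ hzk) u]
    generalize hu : (m a)⁻¹ * s (π a) = u
    generalize hv : (m b)⁻¹ * s (π b) = v
    have ea : s (π a) = m a * u := by rw [← hu]; group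
    have eb : s (π b) = m b * v := by rw [← hv]; group
    have cu := fun t => hu ▸ hdec a t
    have cv := fun t => hv ▸ hdec b t
    rw [ea, eb, commutatorElement_def, commutatorElement_def, mul_inv_rev, mul_inv_rev]
    calc m a * u * (m b * v) * (u⁻¹ * (m a)⁻¹) * (v⁻¹ * (m b)⁻¹)
        = m a * (u * (m b * v)) * u⁻¹ * (m a)⁻¹ * v⁻¹ * (m b)⁻¹ := by group
      _ = m a * m b * (v * (m a)⁻¹) * v⁻¹ * (m b)⁻¹ := by rw [← cu]; group
      _ = m a * m b * (m a)⁻¹ * (m b)⁻¹ := by rw [← cv]; group
  rintro a ⟨ha, ha'⟩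
  obtain ⟨u, hu⟩ := hcs ha'
  have h : u = 1 := by
    have h := congrArg π' hu
    rw [hπs] at h
    exact h.trans ha
  rw [h, map_one] at hu
  exact (QuotientGroup.eq_one_iff a).1 hu.symm

end Cfsg.Lib.CosetEnum
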